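import Cfsg.Agent.Lib.U62J.Facts

/-!
U62J/PairFacts: the stabiliser of a form of rank one and its action modulo the forms supported on the
first row and column.
-/

set_option autoImplicit false
set_option maxRecDepth 100000
set_option maxHeartbeats 4000000

namespace Cfsg.Agent.Lib.U62J

open Cfsg.Agent.Lib.G24 (K4)
open Matrix

theorem low_add {p p' : HP} (h : Low p) (h' : Low p') : Low (p + p') := by
  obtain ⟨a, b, c, x, y, z⟩ := p
  obtain ⟨a', b', c', x', y', z'⟩ := p'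
  obtain ⟨h1, h2, h3⟩ := h
  obtain ⟨h4, h5, h6⟩ := h'
  simp only at h1 h2 h3 h4 h5 h6
  subst h1 h2 h3 h4 h5 h6
  simp [Low]

theorem low_zero : Low 0 := ⟨rfl, rfl, rfl⟩

theorem dAct_add (g : SL3) (p p' : HP) : dAct g (p + p') = dAct g p + dAct g p' := by
  rw [dAct, dAct, dAct, act_add, add_add_add_comm]

theorem col_of_fix {g : SL3} (h : act g r1 = r1) : g.1 1 0 = 0 ∧ g.1 2 0 = 0 := by
  refine outer_eq_rep (g.1 0 0) _ _ (Eq.trans ?_ h)
  have hm : mat r1 = !![1, 0, 0; 0, 0, 0; 0, 0, 0] := by decide +kernel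
  rw [outer, act, hm]
  congr 1
  ext i j
  fin_cases i <;> fin_cases j <;> simp [Matrix.vecMulVec, Matrix.mul_apply, Fin.sum_univ_three, ct]

theorem low_act {g : SL3} (h : act g r1 = r1) {p : HP} (hp : Low p) : Low (act g p) := by
  obtain ⟨a, b, c, x, y, z⟩ := p
  obtain ⟨h1, h2, h3⟩ := hp
  simp only at h1 h2 h3
  subst h1 h2 h3
  obtain ⟨e1, e2⟩ := col_of_fix h
  have hz : un 0 = 0 := rfl
  simp [Low, act, toP, mat, em, Matrix.mul_apply, Fin.sum_univ_three, ct, e1, e2, hz]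

/-- block condition: fixing three of the basic forms -/
theorem block_fix : ∀ p q r s : K4, p * cj p = 1 → r * cj r = 0 → q * cj q = 0 → s * cj s = 1 →
    (p + q) * cj (r + s) = 1 → q = 0 ∧ r = 0 ∧ s = p ∧ p ≠ 0 := by
  decide +kernel

theorem em_un_norm : ∀ x : K4, em (un (x * cj x)) = x * cj x := by decide +kernel

theorem scal_norm : ∀ μ : K4, μ ≠ 0 → μ * cj μ = 1 := by decide +kernel

theorem diag_det : ∀ a μ : K4, μ ≠ 0 → a * μ * μ = 1 → a = μ := by decide +kernel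

/-- elements fixing the top layer act as root elements -/
theorem exists_root_of_fix_top {g : SL3} (h : act g r1 = r1)
    (htop : ∀ i, Low (dAct g (topB i))) :
    ∃ (μ a c : K4), μ ≠ 0 ∧ g.1 = μ • (ut a 0 c).1 := by
  obtain ⟨e1, e2⟩ := col_of_fix h
  have hp2 := htop 0
  have hp3 := htop 1
  have hp4 := htop 2
  have t0 : topB 0 = (0, 1, 0, 0, 0, 0) := rfl
  have t1 : topB 1 = (0, 0, 1, 0, 0, 0) := by decide +kernel
  have t2 : topB 2 = (0, 1, 1, 0, 0, 1) := by decide +kernel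
  rw [t0] at hp2
  rw [t1] at hp3
  rw [t2] at hp4
  have hz : ∀ x : ZMod 2, x + 1 = 0 → x = 1 := by decide
  have hz0 : ∀ x : ZMod 2, x + 0 = 0 → x = 0 := by decide
  have hk : ∀ x : K4, x + 1 = 0 → x = 1 := by decide +kernel
  have hu : ∀ x : K4, (un (x * cj x) = 1 → x * cj x = 1) ∧ (un (x * cj x) = 0 → x * cj x = 0) := by
    decide +kernel
  simp [Low, dAct, act, toP, mat, em, Matrix.mul_apply, Fin.sum_univ_three, ct] at hp2 hp3 hp4
  obtain ⟨b2, c2, -⟩ := hp2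
  obtain ⟨b3, c3, -⟩ := hp3
  obtain ⟨-, -, z4⟩ := hp4
  have hmid : (g.1 1 1 + g.1 1 2) * cj (g.1 2 1 + g.1 2 2) = 1 := by
    refine hk _ ?_
    rw [← z4, map_add]
    ring
  obtain ⟨hq, hr, hs, hp⟩ := block_fix _ (g.1 1 2) (g.1 2 1) (g.1 2 2) ((hu _).1 (hz _ b2))
    ((hu _).2 c2) ((hu _).2 b3) ((hu _).1 (hz _ c3)) hmid
  have hd : g.1 0 0 = g.1 1 1 := by
    refine diag_det _ _ hp ?_
    have := g.2
    rw [Matrix.det_fin_three, e1, e2, hq, hr, hs] at this
    simpa using this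
  refine ⟨g.1 1 1, (g.1 1 1)⁻¹ * g.1 0 1, (g.1 1 1)⁻¹ * g.1 0 2, hp, ?_⟩
  ext i j
  fin_cases i <;> fin_cases j <;> simp [ut, e1, e2, hq, hr, hs, hd, hp]

theorem act_smul_eq {g g' : SL3} {μ : K4} (hμ : μ ≠ 0) (h : g.1 = μ • g'.1) (p : HP) :
    act g p = act g' p := by
  have hc : ct (μ • g'.1) = cj μ • ct g'.1 := by ext i j; simp [ct]
  rw [act, act, h, hc, Matrix.smul_mul, Matrix.smul_mul, Matrix.mul_smul, smul_smul, scal_norm μ hμ, one_smul]

theorem root_top : ∀ (i : Fin 4) (a c : K4), Low (dAct (ut a 0 c) (topB i)) := by decide +kernel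

theorem mid_sq : ∀ b : K4, ut 0 b 0 * ut 0 b 0 = 1 := by decide +kernel

theorem q_sq : ∀ a c : K4, ut a 0 c * ut a 0 c = 1 := by decide +kernel

theorem q_mul : ∀ a c a' c' : K4, ut a 0 c * ut a' 0 c' = ut (a + a') 0 (c + c') := by decide +kernel

theorem reach : ∀ p : HP, ¬ Low p → Low (p + topB 1) ∨
    (∃ s, Low (dAct (low s) p + topB 1)) ∨
    (∃ s s', Low (dAct (low s') (dAct (low s) p) + topB 1)) := by
  decide +kernel

end Cfsg.Agent.Lib.U62J
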