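import Cfsg.Agent.Lib.U62J.Cover

/-!
U62J/Split: in a perfect double cover of `PSU(6, 2)` there is no invariant choice of one lift for every
involution which is multiplicative on a radical.
-/

set_option autoImplicit false
set_option linter.unusedSectionVars false
set_option linter.style.haveILetI false

namespace Cfsg.Agent.Lib.U62J

open Cfsg.Agent.Lib.G24 (K4)

/-- an invariant predicate selecting one lift of every involution, whose complement is multiplicative on
the radical -/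
structure Choice {C : Type*} [Group C] (π : C →* Q6) (d : C) (P : C → Prop) : Prop where
  conj : ∀ c x, P x → P (c * x * c⁻¹)
  one : ¬ P 1
  mem_d : P d
  one_lift : ∀ z ∈ A0 π, z ≠ 1 → z ≠ d → (P z ↔ ¬ P (z * d))
  mul : ∀ z ∈ A0 π, ∀ z' ∈ A0 π, ¬ P z → ¬ P z' → ¬ P (z * z')

variable {C : Type*} [Group C] [Finite C] {π : C →* Q6} {d : C} {P : C → Prop}

theorem Choice.conj_iff (hP : Choice π d P) (c x : C) : P (c * x * c⁻¹) ↔ P x :=
  ⟨fun h => by simpa [mul_assoc] using hP.conj c⁻¹ _ h, hP.conj c x⟩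

/-- involutions which are not selected -/
def NP (P : C → Prop) (x : C) : Prop := x * x = 1 ∧ ¬ P x

theorem Choice.np_conj (hP : Choice π d P) (c : C) {x : C} (hx : NP P x) : NP P (c * x * c⁻¹) :=
  ⟨by rw [conj_mul, hx.1, mul_one, mul_inv_cancel], fun h => hx.2 ((hP.conj_iff c x).mp h)⟩

theorem Choice.uniq (hP : Choice π d P) (h : Cov π d) {x y : C} (hx : NP P x) (hy : NP P y)
    (e : π x = π y) : x = y := by
  rcases h.eq_or e.symm with e' | e'
  · exact e'.symm
  exfalso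
  obtain ⟨c, hc⟩ := h.exists_conj_mem hx.1
  obtain ⟨hz1, hz2⟩ := hP.np_conj c hx
  have hy' := (hP.np_conj c hy).2
  have hyd : c * y * c⁻¹ = c * x * c⁻¹ * d := by
    subst e'
    calc c * (x * d) * c⁻¹ = c * x * (d * c⁻¹) := by group
      _ = c * x * (c⁻¹ * d) := by rw [h.comm]
      _ = c * x * c⁻¹ * d := by group
  by_cases h1 : c * x * c⁻¹ = 1
  · rw [hyd, h1, one_mul] at hy'; exact hy' hP.mem_d
  · by_cases h2 : c * x * c⁻¹ = d
    · rw [h2] at hz2; exact hz2 hP.mem_d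
    · rw [hyd] at hy'; exact hz2 ((hP.one_lift _ hc h1 h2).mpr hy')

theorem Choice.exists_lift (hP : Choice π d P) (h : Cov π d) (p : HP) :
    ∃ x, x ∈ A0 π ∧ NP P x ∧ π x = uQ p := by
  obtain ⟨x, hx⟩ := h.surj (uQ p)
  have hm : x ∈ A0 π := ⟨p, hx.symm⟩
  by_cases hp : P x
  · refine ⟨x * d, mul_mem hm h.d_mem, ⟨h.A0_sq (mul_mem hm h.d_mem), ?_⟩, by rw [map_mul, hx, h.pid, mul_one]⟩
    by_cases h1 : x = 1
    · exact absurd (h1 ▸ hp) hP.one
    · by_cases h2 : x = d
      · rw [h2, h.dd]; exact hP.one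
      · exact (hP.one_lift x hm h1 h2).mp hp
  · exact ⟨x, hm, ⟨h.A0_sq hm, hp⟩, hx⟩

theorem no_choice (h : Cov π d) (hperf : commutator C = ⊤) (hP : Choice π d P) : False := by
  classical
  choose s hsA hsN hsπ using hP.exists_lift h
  have hs_add : ∀ p p', s (p + p') = s p * s p' := fun p p' =>
    hP.uniq h (hsN _) ⟨h.A0_sq (mul_mem (hsA p) (hsA p')), hP.mul _ (hsA p) _ (hsA p') (hsN p).2 (hsN p').2⟩
      (by rw [map_mul, hsπ, hsπ, hsπ, uQ_add])
  have hs0 : s 0 = 1 := hP.uniq h (hsN _) ⟨mul_one 1, hP.one⟩ (by rw [hsπ, uQ_zero, map_one])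
  obtain ⟨c1, hc1⟩ := h.surj (ph w12)
  obtain ⟨c2, hc2⟩ := h.surj (ph w2)
  set S1 : K4 → K4 → C := fun a c => c1 * s (0, 0, 0, a, c, 0) * c1⁻¹ with hS1
  set S2 : K4 → C := fun b => c2 * s (0, 0, 0, 0, 0, b) * c2⁻¹ with hS2
  have hπ1 : ∀ a c, π (S1 a c) = lQ (ut a 0 c) := fun a c => by
    rw [hS1]; simp only [map_mul, map_inv, hc1, hsπ]
    show ph w12 * ph (u _) * (ph w12)⁻¹ = ph (l _)
    rw [← map_inv, ← map_mul, ← map_mul, w12_root]
  have hπ2 : ∀ b, π (S2 b) = lQ (ut 0 b 0) := fun b => by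
    rw [hS2]; simp only [map_mul, map_inv, hc2, hsπ]
    show ph w2 * ph (u _) * (ph w2)⁻¹ = ph (l _)
    rw [← map_inv, ← map_mul, ← map_mul, w2_root]
  have hn1 : ∀ a c, NP P (S1 a c) := fun a c => hP.np_conj c1 (hsN _)
  have hn2 : ∀ b, NP P (S2 b) := fun b => hP.np_conj c2 (hsN _)
  have hmul1 : ∀ a c a' c', S1 a c * S1 a' c' = S1 (a + a') (c + c') := fun a c a' c' => by
    show c1 * _ * c1⁻¹ * (c1 * _ * c1⁻¹) = c1 * _ * c1⁻¹
    rw [conj_mul, ← hs_add]
    congr 3
  have hmul2 : ∀ b b', S2 b * S2 b' = S2 (b + b') := fun b b' => by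
    show c2 * _ * c2⁻¹ * (c2 * _ * c2⁻¹) = c2 * _ * c2⁻¹
    rw [conj_mul, ← hs_add]
    congr 3
  have hconj : ∀ (x : C) (g : SL3) (p : HP), π x = lQ g → x * s p * x⁻¹ = s (act g p) := fun x g p hx =>
    hP.uniq h (hP.np_conj x (hsN p)) (hsN _) (by rw [map_mul, map_mul, map_inv, hx, hsπ, hsπ, lQ_conj])
  have hswap : ∀ b a c, S2 b * S1 a c = S1 a (c + a * b) * S2 b := fun b a c => by
    have hi : (S2 b)⁻¹ = S2 b := inv_eq_of_mul_eq_one_right (hn2 b).1
    have e := hP.uniq h (hP.np_conj (S2 b) (hn1 a c)) (hn1 a (c + a * b))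
      (by rw [map_mul, map_mul, map_inv, hπ1, hπ2, hπ1, ← conj_mid b a c, map_mul, map_mul,
        inv_eq_of_mul_eq_one_right (show lQ (ut 0 b 0) * lQ (ut 0 b 0) = 1 by
          rw [← map_mul, ut_mul, add_self, add_self, zero_mul, add_zero, ut_zero, map_one])])
    rw [← e, inv_mul_cancel_right]
  set R : Set C := {x | ∃ p a c b, x = s p * S1 a c * S2 b}
  have hRm : ∀ x ∈ R, ∀ y ∈ R, x * y ∈ R := by
    rintro _ ⟨p, a, c, b, rfl⟩ _ ⟨p', a', c', b', rfl⟩
    refine ⟨p + act (ut a 0 c * ut 0 b 0) p', a + a', c + (c' + a' * b), b + b', ?_⟩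
    have h1 : S1 a c * S2 b * s p' = s (act (ut a 0 c * ut 0 b 0) p') * (S1 a c * S2 b) := by
      rw [← hconj (S1 a c * S2 b) _ p' (by rw [map_mul, hπ1, hπ2, map_mul]), inv_mul_cancel_right]
    calc s p * S1 a c * S2 b * (s p' * S1 a' c' * S2 b')
        = s p * (S1 a c * S2 b * s p') * S1 a' c' * S2 b' := by group
      _ = s p * s (act (ut a 0 c * ut 0 b 0) p') * S1 a c * (S2 b * S1 a' c') * S2 b' := by rw [h1]; group
      _ = _ := by rw [hswap, hs_add, ← hmul1, ← hmul2]; group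
  have hS10 : S1 0 0 = 1 := by
    show c1 * s 0 * c1⁻¹ = 1
    rw [hs0, mul_one, mul_inv_cancel]
  have hS20 : S2 0 = 1 := by
    show c2 * s 0 * c2⁻¹ = 1
    rw [hs0, mul_one, mul_inv_cancel]
  let T0 : Subgroup C :=
    { carrier := R
      one_mem' := ⟨0, 0, 0, 0, by rw [hs0, hS10, hS20, one_mul, one_mul]⟩
      mul_mem' := fun hx hy => hRm _ hx _ hy
      inv_mem' := by
        rintro _ ⟨p, a, c, b, rfl⟩
        rw [_root_.mul_inv_rev (s p * S1 a c) (S2 b), _root_.mul_inv_rev (s p) (S1 a c), h.A0_inv (hsA p),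
          inv_eq_of_mul_eq_one_right (hn1 a c).1, inv_eq_of_mul_eq_one_right (hn2 b).1]
        exact hRm _ ⟨0, 0, 0, b, by rw [hs0, hS10, one_mul, one_mul]⟩ _
          (hRm _ ⟨0, a, c, 0, by rw [hs0, hS20, one_mul, mul_one]⟩ _
            ⟨p, 0, 0, 0, by rw [hS10, hS20, mul_one, mul_one]⟩) }
  have hπR : ∀ p a c b, π (s p * S1 a c * S2 b) = ph (tel (p, a, b, c + a * b)) := fun p a c b => by
    rw [map_mul, map_mul, hsπ, hπ1, hπ2, mul_assoc, ← map_mul, ut_mul]
    simp only [add_zero, zero_add]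
    show ph (u _) * ph (l _) = _
    rw [← map_mul]; rfl
  have hd : d ∉ T0 := by
    rintro ⟨p, a, c, b, e⟩
    have e1 := congrArg π e
    rw [h.pid, hπR] at e1
    have e2 := tel_eq_one_of_ph e1.symm
    obtain ⟨rfl, rfl, rfl, hc⟩ : p = 0 ∧ a = 0 ∧ b = 0 ∧ c + a * b = 0 := by
      simpa [Prod.ext_iff, and_assoc] using e2
    rw [zero_mul, add_zero] at hc
    rw [hc, hs0, hS10, hS20, one_mul, one_mul] at e
    exact h.dne e
  have hcover : ∀ x ∈ TC π, x ∈ T0 ∨ x * d ∈ T0 := by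
    intro x hx
    obtain ⟨⟨p, a, b, c⟩, ht⟩ : π x ∈ TQ := hx
    have hm : s p * S1 a (c + a * b) * S2 b ∈ T0 := ⟨p, a, c + a * b, b, rfl⟩
    rcases h.eq_or (x := x) (y := s p * S1 a (c + a * b) * S2 b)
      (by rw [hπR, add_assoc, add_self, add_zero]; exact ht.symm) with e | e
    · exact Or.inl (e ▸ hm)
    · exact Or.inr (by rw [e, mul_assoc, h.dd, mul_one]; exact hm)
  let ψ : ↥(TC π) →* Multiplicative (ZMod 2) :=
    { toFun := fun x => Multiplicative.ofAdd (if (x : C) ∈ T0 then 0 else 1)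
      map_one' := by simp [T0.one_mem]
      map_mul' := fun x y => by
        rw [← ofAdd_add, Subgroup.coe_mul]
        by_cases hx : (x : C) ∈ T0
        · by_cases hy : (y : C) ∈ T0
          · simp [hx, hy, mul_mem hx hy]
          · simp [hx, hy, (Subgroup.mul_mem_cancel_left T0 hx).not.mpr hy]
        · by_cases hy : (y : C) ∈ T0
          · simp [hx, hy, (Subgroup.mul_mem_cancel_right T0 hy).not.mpr hx]
          · have hx' := (hcover _ x.2).resolve_left hx
            have hy' := (hcover _ y.2).resolve_left hy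
            have hxy : (x : C) * d * ((y : C) * d) = x * y := by
              calc (x : C) * d * ((y : C) * d) = x * (d * y) * d := by group
                _ = (x * y) * (d * d) := by rw [h.comm]; group
                _ = _ := by rw [h.dd, mul_one]
            rw [if_neg hx, if_neg hy, if_pos (hxy ▸ mul_mem hx' hy')]
            rfl }
  have hfi : (TC π).FiniteIndex := inferInstance
  have htr := MonoidHom.transfer_eq_pow (ϕ := ψ) d (fun k g₀ _ => by
    have hk : Commute g₀ (d ^ k) := Commute.pow_right (h.comm g₀).symm k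
    rw [mul_assoc, ← hk.eq, inv_mul_cancel_left])
  have hker : MonoidHom.transfer ψ d = 1 := by
    have : d ∈ commutator C := hperf ▸ Subgroup.mem_top d
    exact Abelianization.commutator_subset_ker _ this
  rw [hker] at htr
  have hpow : d ^ (TC π).index = d := by
    rw [h.index_TC, show (280665 : ℕ) = 2 * 140332 + 1 by norm_num, pow_succ, pow_mul, sq, h.dd,
      one_pow, one_mul]
  have : (if (d ^ (TC π).index : C) ∈ T0 then (0 : ZMod 2) else 1) = 0 :=
    Multiplicative.ofAdd.injective htr.symm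
  rw [hpow, if_neg hd] at this
  exact one_ne_zero this

end Cfsg.Agent.Lib.U62J
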