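import Cfsg.Agent.Lib.U62J.One
import Cfsg.Agent.Lib.U62J.Split
import Cfsg.Agent.Lib.Fg6.FourGroupConj

/-!
U62J/Count: the radical of a centraliser which is a double cover of `PSU(6, 2)` contains 22 conjugates
of `d`, permuted transitively by the normaliser.
-/

set_option autoImplicit false
set_option linter.unusedSectionVars false
set_option linter.style.haveILetI false
set_option synthInstance.maxSize 4000
set_option maxRecDepth 100000

namespace Cfsg.Agent.Lib.U62J

open Cfsg.Agent.Lib.G24 (K4)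

/-- the possible triples -/
def admissible (a b c : Fin 3) : Prop :=
  (a.val = 0 ∧ b.val = 0 ∧ c.val = 0) ∨ (a.val = 1 ∧ b.val = 0 ∧ c.val = 0) ∨
    (a.val = 0 ∧ b.val = 0 ∧ c.val = 2) ∨ (a.val = 1 ∧ b.val = 1 ∧ c.val = 1) ∨
    (a.val = 1 ∧ b.val = 1 ∧ c.val = 2)

instance (a b c : Fin 3) : Decidable (admissible a b c) := by unfold admissible; infer_instance

theorem cand : ∀ a b c : Fin 3, a.val = 2 ∨ admissible a b c ∨
    (∏ i ∈ Finset.range 10, (2 ^ 10 - 2 ^ i)) % (1 + 21 * a.val + 210 * b.val + 280 * c.val) ≠ 0 := by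
  decide +kernel

theorem sum_split : ∃ p q : HP, p + q = r1 ∧ cls p = 3 ∧ cls q = 3 :=
  ⟨(0, 1, 1, 1, 0, 1), (1, 1, 1, 1, 0, 1), by decide +kernel, by decide +kernel, by decide +kernel⟩

/-- a form of rank two -/
def p23 : HP := (0, 1, 1, 0, 0, 0)

theorem p23_facts : p23 ≠ 0 ∧ cls p23 = 2 ∧ r1 + p23 ≠ 0 ∧ cls (r1 + p23) = 3 := by decide +kernel

variable {G : Type*} [Group G] [Finite G] {d : G}
variable {π : ↥(Subgroup.centralizer ({d} : Set G)) →* Q6}

theorem ncard_eq (hcov : Cov π (dC d)) : Set.ncard {x : G | x ∈ AG π ∧ IsConj d x} =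
    1 + 21 * cnt hcov (rep 1) + 210 * cnt hcov (rep 2) + 280 * cnt hcov (rep 3) := by
  classical
  let f : HP × Bool → ↥(Subgroup.centralizer ({d} : Set G)) := fun x =>
    bif x.2 then sec hcov x.1 * dC d else sec hcov x.1
  have hfπ : ∀ x, π (f x) = uQ x.1 := fun x => by
    rcases x with ⟨p, b⟩; cases b
    · exact sec_spec hcov p
    · exact sec_d_spec hcov p
  have hfinj : Function.Injective f := by
    rintro ⟨p, b⟩ ⟨p', b'⟩ e
    obtain rfl : p = p' := uQ_inj (by rw [← hfπ (p, b), ← hfπ (p', b'), e])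
    cases b <;> cases b'
    · rfl
    · exact absurd (left_eq_mul.mp (show sec hcov p = sec hcov p * dC d from e)) hcov.dne
    · exact absurd (mul_eq_left.mp (show sec hcov p * dC d = sec hcov p from e)) hcov.dne
    · rfl
  have hinj : Function.Injective (fun x => (f x : G)) := Subtype.val_injective.comp hfinj
  have hset : {x : G | x ∈ AG π ∧ IsConj d x} =
      ↑((Finset.univ.filter fun x => IsCj (f x)).image fun x => (f x : G)) := by
    ext x
    simp only [Set.mem_ofPred_eq, Finset.coe_image, Set.mem_image, Finset.coe_filter, Finset.mem_univ,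
      true_and]
    constructor
    · rintro ⟨hxA, hx⟩
      obtain ⟨a, ha, rfl⟩ := mem_AG.mp hxA
      obtain ⟨p, hp⟩ := mem_A0.mp ha
      rcases hcov.eq_or (x := a) (y := sec hcov p) (by rw [sec_spec, hp]) with rfl | rfl
      · exact ⟨(p, false), hx, rfl⟩
      · exact ⟨(p, true), hx, rfl⟩
    · rintro ⟨q, hq, rfl⟩
      exact ⟨mem_AG.mpr ⟨f q, ⟨q.1, (hfπ q).symm⟩, rfl⟩, hq⟩
  rw [hset, Set.ncard_coe_finset, Finset.card_image_of_injective _ hinj, Finset.card_filter,
    Fintype.sum_prod_type]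
  have hsum : ∀ p, (∑ b : Bool, if IsCj (f (p, b)) then 1 else 0) = cnt hcov p := fun p => by
    rw [Fintype.sum_bool, cnt, add_comm]
    simp only [f, cond_true, cond_false, ind]
  simp only [hsum]
  have hz : ∀ p, cls p = 0 ↔ p = 0 := fun p => ⟨fun e => by
    by_contra hp
    rcases cls_range hp with h | h | h <;> omega, fun e => e ▸ cls_zero⟩
  have hk : ∀ k, k = 1 ∨ k = 2 ∨ k = 3 → ∀ p ∈ Finset.univ.filter (fun p => cls p = k),
      cnt hcov p = cnt hcov (rep k) := by
    intro k hk p hp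
    simp only [Finset.mem_filter, Finset.mem_univ, true_and] at hp
    rw [cnt_rep hcov (fun e => by rw [e, cls_zero] at hp; omega), hp]
  rw [← Finset.sum_fiberwise_of_maps_to (g := cls) (t := ({0, 1, 2, 3} : Finset ℕ)) (fun p _ => by
    by_cases hp : p = 0
    · simp [hp, cls_zero]
    · rcases cls_range hp with h | h | h <;> simp [h])]
  rw [Finset.sum_insert (by simp), Finset.sum_insert (by simp), Finset.sum_insert (by simp),
    Finset.sum_singleton, Finset.sum_const_nat (hk 1 (by simp)), Finset.sum_const_nat (hk 2 (by simp)),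
    Finset.sum_const_nat (hk 3 (by simp)), card_cls.1, card_cls.2.1, card_cls.2.2,
    show (Finset.univ.filter fun p => cls p = 0) = {0} by ext p; simp [hz], Finset.sum_singleton, cnt_zero]
  ring

theorem ncard_dvd (hcov : Cov π (dC d)) :
    Set.ncard {x : G | x ∈ AG π ∧ IsConj d x} ∣ ∏ i ∈ Finset.range 10, (2 ^ 10 - 2 ^ i) := by
  letI : CommGroup ↥(AG π) := { (inferInstance : Group ↥(AG π)) with
    mul_comm := fun x y => Subtype.ext (AG_comm hcov x.2 y.2) }
  have : Fact (Nat.Prime 2) := ⟨Nat.prime_two⟩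
  set R := (AG π).normalizerMonoidHom.range with hR
  have hset : {x : G | x ∈ AG π ∧ IsConj d x} =
      Subtype.val '' (MulAction.orbit ↥R (⟨d, d_mem_AG hcov⟩ : ↥(AG π))) := by
    ext x
    constructor
    · rintro ⟨hx, hdx⟩
      obtain ⟨n, hn, rfl⟩ := exists_normalizer_of_isConj hcov hx hdx
      exact ⟨_, ⟨⟨(AG π).normalizerMonoidHom ⟨n, hn⟩, ⟨n, hn⟩, rfl⟩, rfl⟩, rfl⟩
    · rintro ⟨_, ⟨⟨_, n, rfl⟩, rfl⟩, rfl⟩
      exact ⟨Subtype.prop _, isConj_iff.mpr ⟨n.1, rfl⟩⟩
  rw [hset, Set.ncard_image_of_injective _ Subtype.val_injective, ← MulAction.index_stabilizer]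
  refine ((Subgroup.index_dvd_card _).trans (Subgroup.card_subgroup_dvd_card R)).trans ?_
  refine (Cfsg.Agent.Lib.Fg6.FourGroupConj.card_mulAut_dvd (k := 10) (Q := ↥(AG π)) (p := 2)
    (fun q => Subtype.ext (by rw [SubmonoidClass.coe_pow, sq]; exact AG_sq hcov q.2)) (card_AG hcov)).trans ?_
  rw [Matrix.card_GL_field, ZMod.card, Fin.prod_univ_eq_prod_range (fun i => 2 ^ 10 - 2 ^ i) 10]

theorem radical_main (hcov : Cov π (dC d))
    (hperf : commutator ↥(Subgroup.centralizer ({d} : Set G)) = ⊤)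
    (hnwc : ∃ g : G, g * d * g⁻¹ ∈ Subgroup.centralizer ({d} : Set G) ∧ g * d * g⁻¹ ≠ d) :
    Cfsg.IsElementaryAbelian 2 (AG π) ∧ Nat.card (AG π) = 2 ^ 10 ∧
      Set.ncard {x : G | x ∈ AG π ∧ IsConj d x} = 22 ∧
      ∀ x ∈ AG π, ∀ y ∈ AG π, IsConj d x → IsConj d y →
        ∃ n ∈ Subgroup.normalizer (AG π : Set G), n * x * n⁻¹ = y := by
  refine ⟨AG_elem hcov, card_AG hcov, ?_, fun x hx y hy hdx hdy => ?_⟩
  swap
  · obtain ⟨n, hn, rfl⟩ := exists_normalizer_of_isConj hcov hx hdx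
    obtain ⟨m, hm, rfl⟩ := exists_normalizer_of_isConj hcov hy hdy
    exact ⟨m * n⁻¹, mul_mem hm (inv_mem hn), by group⟩
  set a := cnt hcov (rep 1)
  set b := cnt hcov (rep 2)
  set c := cnt hcov (rep 3)
  have hdiv : 1 + 21 * a + 210 * b + 280 * c ∣ ∏ i ∈ Finset.range 10, (2 ^ 10 - 2 ^ i) :=
    ncard_eq hcov ▸ ncard_dvd hcov
  have ha : a ≤ 1 := cnt_one hcov
  have hlt : admissible ⟨a, by omega⟩ ⟨b, Nat.lt_succ_of_le (cnt_le _ _)⟩ ⟨c, Nat.lt_succ_of_le (cnt_le _ _)⟩ := by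
    rcases cand ⟨a, by omega⟩ ⟨b, Nat.lt_succ_of_le (cnt_le _ _)⟩ ⟨c, Nat.lt_succ_of_le (cnt_le _ _)⟩ with
      h | h | h
    · simp only at h; omega
    · exact h
    · exact absurd (Nat.mod_eq_zero_of_dvd hdiv) h
  have key : ∀ z ∈ A0 π, z ≠ 1 → ¬ IsCj z → ∃ p, p ≠ 0 ∧ π z = uQ p ∧ cnt hcov p = ind (z * dC d) := by
    intro z hz hz1 hzP
    obtain ⟨p, hp⟩ := mem_A0.mp hz
    refine ⟨p, fun h0 => ?_, hp.symm, ?_⟩
    · rw [h0, uQ_zero] at hp
      exact hzP (((hcov.ker_iff z).mp hp.symm).resolve_left hz1 ▸ isCj_d)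
    · rw [cnt_spec hcov hp.symm, ind_zero hzP, zero_add]
  have hclass : ∀ p, p ≠ 0 → cnt hcov p = a ∨ cnt hcov p = b ∨ cnt hcov p = c := fun p hp => by
    rw [cnt_rep hcov hp]
    rcases cls_range hp with h | h | h <;> rw [h]
    · exact Or.inl rfl
    · exact Or.inr (Or.inl rfl)
    · exact Or.inr (Or.inr rfl)
  have htwo : ∀ {z : ↥(Subgroup.centralizer ({d} : Set G))} {p}, π z = uQ p → cnt hcov p = 2 → IsCj z := by
    intro z p hp h2
    by_contra hz
    rw [cnt_spec hcov hp, ind_zero hz] at h2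
    have := ind_le (z * dC d)
    omega
  rcases hlt with ⟨h1, h2, h3⟩ | ⟨h1, h2, h3⟩ | ⟨h1, h2, h3⟩ | ⟨h1, h2, h3⟩ | ⟨h1, h2, h3⟩ <;>
    simp only at h1 h2 h3
  · exfalso
    obtain ⟨g, hg, hgne⟩ := hnwc
    set x : ↥(Subgroup.centralizer ({d} : Set G)) := ⟨g * d * g⁻¹, hg⟩ with hx
    have hxP : IsCj x := isConj_iff.mpr ⟨g, rfl⟩
    have hdd : d * d = 1 := congrArg Subtype.val hcov.dd
    have hx2 : x * x = 1 := Subtype.ext (by
      show g * d * g⁻¹ * (g * d * g⁻¹) = 1
      rw [conj_mul, hdd, mul_one, mul_inv_cancel])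
    obtain ⟨k, hk⟩ := hcov.exists_conj_mem hx2
    obtain ⟨p, hp⟩ := mem_A0.mp hk
    have hcP : IsCj (k * x * k⁻¹) := (isCj_conj k x).mpr hxP
    have hp0 : p ≠ 0 := fun h0 => by
      rw [h0, uQ_zero] at hp
      rcases (hcov.ker_iff _).mp hp.symm with h | h
      · exact not_isCj_one hcov (h ▸ hcP)
      · have : x = dC d := (MulAut.conj k).injective (h.trans (conj_d hcov k).symm)
        exact hgne (congrArg Subtype.val this)
    have hpos := cnt_spec hcov hp.symm
    rw [ind_pos hcP] at hpos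
    rcases hclass p hp0 with h | h | h <;> omega
  · rw [ncard_eq hcov]
    omega
  · exfalso
    obtain ⟨p, q, hpq, hcp, hcq⟩ := sum_split
    have hne : ∀ p, cls p = 3 → p ≠ 0 := fun p h e => by rw [e, cls_zero] at h; omega
    have hP3 : ∀ p, cls p = 3 → IsCj (sec hcov p) := fun p hp =>
      htwo (sec_spec hcov p) (by rw [cnt_rep hcov (hne p hp), hp]; exact h3)
    set z := sec hcov p * sec hcov q with hz
    have hzπ : π z = uQ r1 := by rw [hz, map_mul, sec_spec, sec_spec, ← uQ_add, hpq]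
    have hzP : ¬ IsCj z := fun h => by
      have := cnt_spec hcov hzπ
      rw [ind_pos h] at this
      change a = _ at this
      omega
    have hz1 : z ≠ 1 := fun h => by
      rw [h, map_one, ← uQ_zero] at hzπ
      exact r1_ne_zero (uQ_inj hzπ).symm
    have := isCj_move hcov False (fun z hz hz1 hzP => by
      obtain ⟨p, hp, -, hNp⟩ := key z hz hz1 hzP
      refine iff_false_intro fun hh => ?_
      rw [ind_pos hh] at hNp
      rcases hclass p hp with h | h | h <;> omega)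
      (mul_mem (sec_mem hcov p) (sec_mem hcov q)) hz1 hzP (sec_mem hcov q) (hP3 q hcq)
    rw [mul_assoc, hcov.A0_sq (sec_mem hcov q), mul_one] at this
    exact this.mp (hP3 p hcp)
  · exfalso
    have hN1 : ∀ p, p ≠ 0 → cnt hcov p = 1 := fun p hp => by
      rcases hclass p hp with h | h | h <;> omega
    have hyes : ∀ z ∈ A0 π, z ≠ 1 → ¬ IsCj z → (IsCj (z * dC d) ↔ True) := fun z hz hz1 hzP => by
      obtain ⟨p, hp, -, hNp⟩ := key z hz hz1 hzP
      rw [hN1 p hp] at hNp
      simp only [iff_true]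
      exact ind_eq_one hNp.symm
    refine no_choice hcov hperf (P := IsCj)
      ⟨fun k x h => (isCj_conj k x).mpr h, not_isCj_one hcov, isCj_d, ?_, ?_⟩
    · intro z hz hz1 hzd
      obtain ⟨p, hp⟩ := mem_A0.mp hz
      have hp0 : p ≠ 0 := fun h0 => by
        rw [h0, uQ_zero] at hp
        rcases (hcov.ker_iff z).mp hp.symm with h | h
        · exact hz1 h
        · exact hzd h
      have := cnt_spec hcov hp.symm
      rw [hN1 p hp0] at this
      refine ⟨fun h => ind_eq_zero ?_, fun h => ind_eq_one ?_⟩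
      · rw [ind_pos h] at this; omega
      · rw [ind_zero h] at this; omega
    · intro z hz z' hz' hzP hz'P hzz
      by_cases h0 : z = 1
      · subst h0; rw [one_mul] at hzz; exact hz'P hzz
      · have := (isCj_move hcov True hyes hz h0 hzP (mul_mem hz hz') hzz).mpr trivial
        rw [← mul_assoc, hcov.A0_sq hz, one_mul] at this
        exact hz'P this
  · exfalso
    obtain ⟨hp0, hc2, hq0, hc3⟩ := p23_facts
    have lift1 : ∀ p, cnt hcov p = 1 → ∃ z, z ∈ A0 π ∧ π z = uQ p ∧ ¬ IsCj z := fun p hp => by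
      by_cases h : IsCj (sec hcov p)
      · refine ⟨_, mul_mem (sec_mem hcov p) hcov.d_mem, sec_d_spec hcov p, ind_eq_zero ?_⟩
        rw [cnt, ind_pos h] at hp; omega
      · exact ⟨_, sec_mem hcov p, sec_spec hcov p, h⟩
    obtain ⟨z1, hz1A, hz1π, hz1P⟩ := lift1 r1 h1
    obtain ⟨z2, hz2A, hz2π, hz2P⟩ := lift1 p23 (by rw [cnt_rep hcov hp0, hc2]; exact h2)
    have hyP : IsCj (z1 * z2) := htwo (by rw [map_mul, hz1π, hz2π, ← uQ_add])
      (by rw [cnt_rep hcov hq0, hc3]; exact h3)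
    have hne : z1 ≠ 1 := fun h => by
      rw [h, map_one, ← uQ_zero] at hz1π
      exact r1_ne_zero (uQ_inj hz1π).symm
    have := (isCj_move hcov True (fun z hz hz1 hzP => by
      obtain ⟨p, hp, hpz, hNp⟩ := key z hz hz1 hzP
      simp only [iff_true]
      rcases hclass p hp with h | h | h
      · exact ind_eq_one (by omega)
      · exact ind_eq_one (by omega)
      · exact absurd (htwo hpz (by omega)) hzP) hz1A hne hz1P
      (mul_mem hz1A hz2A) hyP).mpr trivial
    rw [← mul_assoc, hcov.A0_sq hz1A, one_mul] at this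
    exact hz2P this

end Cfsg.Agent.Lib.U62J
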