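import Cfsg.Agent.Lib.U62J.Pair
import Cfsg.Agent.Lib.U62J.Classes

/-!
U62J/Conj: conjugates of `d` in the radical of a centraliser which is a double cover of `PSU(6, 2)`:
transitivity of the normaliser, and the number of conjugates over each form.
-/

set_option autoImplicit false
set_option linter.unusedSectionVars false
set_option linter.style.haveILetI false

namespace Cfsg.Agent.Lib.U62J

open Cfsg.Agent.Lib.G24 (K4)

variable {G : Type*} [Group G] [Finite G] {d : G}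

/-- the element `d` in its centraliser -/
def dC (d : G) : ↥(Subgroup.centralizer ({d} : Set G)) :=
  ⟨d, Subgroup.mem_centralizer_singleton_iff.mpr rfl⟩

/-- conjugate to `d` in the whole group -/
def IsCj (x : ↥(Subgroup.centralizer ({d} : Set G))) : Prop := IsConj d (x : G)

variable {π : ↥(Subgroup.centralizer ({d} : Set G)) →* Q6}

/-- the radical in the whole group -/
def AG (π : ↥(Subgroup.centralizer ({d} : Set G)) →* Q6) : Subgroup G :=
  (A0 π).map (Subgroup.centralizer ({d} : Set G)).subtype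

theorem mem_AG {x : G} : x ∈ AG π ↔ ∃ a ∈ A0 π, (a : G) = x := by
  rw [AG, Subgroup.mem_map]; rfl

theorem AG_sq (hcov : Cov π (dC d)) {x : G} (hx : x ∈ AG π) : x * x = 1 := by
  obtain ⟨a, ha, rfl⟩ := mem_AG.mp hx
  exact congrArg Subtype.val (hcov.A0_sq ha)

theorem AG_comm (hcov : Cov π (dC d)) {x y : G} (hx : x ∈ AG π) (hy : y ∈ AG π) : x * y = y * x := by
  obtain ⟨a, ha, rfl⟩ := mem_AG.mp hx
  obtain ⟨b, hb, rfl⟩ := mem_AG.mp hy
  exact congrArg Subtype.val (hcov.A0_comm ha hb)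

theorem AG_elem (hcov : Cov π (dC d)) : Cfsg.IsElementaryAbelian 2 (AG π) :=
  ⟨⟨⟨fun x y => Subtype.ext (AG_comm hcov x.2 y.2)⟩⟩, fun a ha => by rw [sq]; exact AG_sq hcov ha⟩

theorem card_AG (hcov : Cov π (dC d)) : Nat.card (AG π) = 2 ^ 10 := by
  rw [← hcov.card_A0, AG]
  exact Nat.card_congr ((A0 π).equivMapOfInjective _ Subtype.val_injective).toEquiv.symm

theorem d_mem_AG (hcov : Cov π (dC d)) : d ∈ AG π := mem_AG.mpr ⟨dC d, hcov.d_mem, rfl⟩

theorem mem_normalizer_of (n : G) (hn : ∀ x ∈ AG π, n * x * n⁻¹ ∈ AG π) :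
    n ∈ Subgroup.normalizer (AG π : Set G) := by
  rw [Subgroup.mem_normalizer_iff]
  intro x
  refine ⟨hn x, fun hx => ?_⟩
  have heq : (AG π).map (MulAut.conj n).toMonoidHom = AG π := by
    refine Subgroup.eq_of_le_of_card_ge ?_ ?_
    · rintro _ ⟨z, hz, rfl⟩
      exact hn z hz
    · exact (Nat.card_congr ((AG π).equivMapOfInjective _ (MulAut.conj n).injective).toEquiv).le
  rw [← heq] at hx
  obtain ⟨z, hz, e⟩ := hx
  have : z = x := (MulAut.conj n).injective e
  exact this ▸ hz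

theorem exists_conj_image {n : G} (hn : n ∈ Subgroup.normalizer (AG π : Set G))
    {a : ↥(Subgroup.centralizer ({d} : Set G))} (ha : a ∈ A0 π) :
    ∃ b ∈ A0 π, (b : G) = n * a * n⁻¹ :=
  mem_AG.mp ((Subgroup.mem_normalizer_iff.mp hn _).mp (mem_AG.mpr ⟨a, ha, rfl⟩))

theorem exists_normalizer_of_isConj (hcov : Cov π (dC d)) {y : G} (hy : y ∈ AG π) (hdy : IsConj d y) :
    ∃ n ∈ Subgroup.normalizer (AG π : Set G), n * d * n⁻¹ = y := by
  obtain ⟨g, hg⟩ := isConj_iff.mp hdy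
  have hsub : (AG π).map (MulAut.conj g⁻¹).toMonoidHom ≤ Subgroup.centralizer ({d} : Set G) := by
    rintro _ ⟨z, hz, rfl⟩
    rw [Subgroup.mem_centralizer_singleton_iff]
    show g⁻¹ * z * g⁻¹⁻¹ * d = d * (g⁻¹ * z * g⁻¹⁻¹)
    have e1 : z * y = y * z := AG_comm hcov hz hy
    calc g⁻¹ * z * g⁻¹⁻¹ * d = g⁻¹ * (z * (g * d * g⁻¹)) * g := by group
      _ = g⁻¹ * ((g * d * g⁻¹) * z) * g := by rw [hg, e1]
      _ = d * (g⁻¹ * z * g⁻¹⁻¹) := by group
  obtain ⟨c, hc⟩ := hcov.exists_conj_A0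
    (B := ((AG π).map (MulAut.conj g⁻¹).toMonoidHom).subgroupOf (Subgroup.centralizer ({d} : Set G)))
    ⟨⟨⟨fun p q => by
        obtain ⟨z, hz, ez⟩ := Subgroup.mem_subgroupOf.mp p.2
        obtain ⟨z', hz', ez'⟩ := Subgroup.mem_subgroupOf.mp q.2
        refine Subtype.ext (Subtype.ext ?_)
        show ((p.1 : ↥(Subgroup.centralizer ({d} : Set G))) : G) * q.1 = q.1 * p.1
        rw [← ez, ← ez', ← map_mul, ← map_mul, AG_comm hcov hz hz']⟩⟩,
      fun p hp => by
        obtain ⟨z, hz, ez⟩ := Subgroup.mem_subgroupOf.mp hp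
        refine Subtype.ext ?_
        rw [SubmonoidClass.coe_pow, ← ez, ← map_pow, sq, AG_sq hcov hz]
        simp⟩
    (by
      rw [Nat.card_congr (Subgroup.subgroupOfEquivOfLe hsub).toEquiv,
        ← Nat.card_congr ((AG π).equivMapOfInjective _ (MulAut.conj g⁻¹).injective).toEquiv, card_AG hcov])
  have hcd : (c : G) * d * (c : G)⁻¹ = d := by
    rw [Subgroup.mem_centralizer_singleton_iff.mp c.2, mul_inv_cancel_right]
  refine ⟨g * c, mem_normalizer_of _ ?_, ?_⟩
  · rintro x hx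
    obtain ⟨a, ha, rfl⟩ := mem_AG.mp hx
    have h1 : (MulAut.conj c) a ∈
        ((AG π).map (MulAut.conj g⁻¹).toMonoidHom).subgroupOf (Subgroup.centralizer ({d} : Set G)) := by
      rw [hc]; exact ⟨a, ha, rfl⟩
    obtain ⟨z, hz, ez⟩ := Subgroup.mem_subgroupOf.mp h1
    have ez' : g⁻¹ * z * g⁻¹⁻¹ = (c : G) * a * (c : G)⁻¹ := ez
    rw [conj_conj, ← ez', show g * (g⁻¹ * z * g⁻¹⁻¹) * g⁻¹ = z by group]
    exact hz
  · rw [conj_conj, hcd, hg]

theorem isCj_conj (c x : ↥(Subgroup.centralizer ({d} : Set G))) : IsCj (c * x * c⁻¹) ↔ IsCj x := by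
  have : IsConj (x : G) ((c : G) * x * (c : G)⁻¹) := isConj_iff.mpr ⟨c, rfl⟩
  exact ⟨fun h => IsConj.trans h this.symm, fun h => IsConj.trans h this⟩

theorem not_isCj_one (hcov : Cov π (dC d)) : ¬ IsCj (1 : ↥(Subgroup.centralizer ({d} : Set G))) := fun h => by
  obtain ⟨g, hg⟩ := isConj_iff.mp h
  exact hcov.dne (Subtype.ext (conj_eq_one_iff.mp hg))

theorem isCj_d : IsCj (dC d) := IsConj.refl d

/-- transport along the transitive action -/
theorem isCj_move (hcov : Cov π (dC d)) (R : Prop)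
    (hR : ∀ z ∈ A0 π, z ≠ 1 → ¬ IsCj z → (IsCj (z * dC d) ↔ R))
    {z : ↥(Subgroup.centralizer ({d} : Set G))} (hz : z ∈ A0 π) (hz1 : z ≠ 1) (hzP : ¬ IsCj z)
    {y : ↥(Subgroup.centralizer ({d} : Set G))} (hy : y ∈ A0 π) (hyP : IsCj y) :
    IsCj (z * y) ↔ R := by
  obtain ⟨n, hn, hny⟩ := exists_normalizer_of_isConj hcov (mem_AG.mpr ⟨y, hy, rfl⟩) hyP
  obtain ⟨z', hz', ez⟩ := exists_conj_image (inv_mem hn) hz
  have hc : IsConj (z' : G) (z : G) := isConj_iff.mpr ⟨n, by rw [ez]; group⟩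
  have hne : z' ≠ 1 := fun e => hz1 (Subtype.ext (by
    rw [e, Subgroup.coe_one] at ez
    exact conj_eq_one_iff.mp ez.symm))
  have hc2 : IsConj ((z' : G) * d) ((z : G) * y) := isConj_iff.mpr ⟨n, by rw [ez, ← hny]; group⟩
  rw [← hR z' hz' hne fun h => hzP (IsConj.trans h hc)]
  exact ⟨fun h => IsConj.trans h hc2.symm, fun h => IsConj.trans h hc2⟩

/-- a chosen lift -/
noncomputable def sec (hcov : Cov π (dC d)) (p : HP) : ↥(Subgroup.centralizer ({d} : Set G)) :=
  Classical.choose (hcov.surj (uQ p))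

theorem sec_spec (hcov : Cov π (dC d)) (p : HP) : π (sec hcov p) = uQ p :=
  Classical.choose_spec (hcov.surj (uQ p))

theorem sec_mem (hcov : Cov π (dC d)) (p : HP) : sec hcov p ∈ A0 π := ⟨p, (sec_spec hcov p).symm⟩

theorem sec_d_spec (hcov : Cov π (dC d)) (p : HP) : π (sec hcov p * dC d) = uQ p := by
  rw [map_mul, sec_spec, hcov.pid, mul_one]

open Classical in
/-- indicator of the conjugates of `d` -/
noncomputable def ind (x : ↥(Subgroup.centralizer ({d} : Set G))) : ℕ := if IsCj x then 1 else 0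

theorem ind_pos {x : ↥(Subgroup.centralizer ({d} : Set G))} (h : IsCj x) : ind x = 1 := by
  rw [ind, if_pos h]

theorem ind_zero {x : ↥(Subgroup.centralizer ({d} : Set G))} (h : ¬ IsCj x) : ind x = 0 := by
  rw [ind, if_neg h]

theorem ind_le (x : ↥(Subgroup.centralizer ({d} : Set G))) : ind x ≤ 1 := by
  rw [ind]; split_ifs <;> omega

theorem ind_eq_one {x : ↥(Subgroup.centralizer ({d} : Set G))} (h : ind x = 1) : IsCj x := by
  by_contra hx
  rw [ind_zero hx] at h
  exact absurd h (by decide)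

theorem ind_eq_zero {x : ↥(Subgroup.centralizer ({d} : Set G))} (h : ind x = 0) : ¬ IsCj x := fun hx => by
  rw [ind_pos hx] at h
  exact absurd h (by decide)

/-- the number of conjugates of `d` over a form -/
noncomputable def cnt (hcov : Cov π (dC d)) (p : HP) : ℕ :=
  ind (sec hcov p) + ind (sec hcov p * dC d)

theorem cnt_le (hcov : Cov π (dC d)) (p : HP) : cnt hcov p ≤ 2 :=
  Nat.add_le_add (ind_le _) (ind_le _)

theorem cnt_spec (hcov : Cov π (dC d)) {z : ↥(Subgroup.centralizer ({d} : Set G))} {p : HP}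
    (hp : π z = uQ p) : cnt hcov p = ind z + ind (z * dC d) := by
  rcases hcov.eq_or (hp.trans (sec_spec hcov p).symm) with rfl | rfl
  · rfl
  · rw [cnt, mul_assoc, hcov.dd, mul_one, add_comm]

theorem cnt_zero (hcov : Cov π (dC d)) : cnt hcov 0 = 1 := by
  rw [cnt_spec hcov (z := 1) (by rw [map_one, uQ_zero]), one_mul, ind_zero (not_isCj_one hcov),
    ind_pos isCj_d]

theorem cnt_act (hcov : Cov π (dC d)) (g : SL3) (p : HP) : cnt hcov (act g p) = cnt hcov p := by
  obtain ⟨c, hc⟩ := hcov.surj (lQ g)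
  have e : π (c * sec hcov p * c⁻¹) = uQ (act g p) := by
    rw [map_mul, map_mul, map_inv, hc, sec_spec, lQ_conj]
  rw [cnt_spec hcov e, cnt]
  have e2 : c * sec hcov p * c⁻¹ * dC d = c * (sec hcov p * dC d) * c⁻¹ := by
    rw [← conj_mul, conj_d hcov]
  have hi : ∀ x, ind (c * x * c⁻¹) = ind x := fun x => by
    by_cases h : IsCj x
    · rw [ind_pos h, ind_pos ((isCj_conj c x).mpr h)]
    · rw [ind_zero h, ind_zero (fun h' => h ((isCj_conj c x).mp h'))]
  rw [e2, hi, hi]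

theorem cnt_rep (hcov : Cov π (dC d)) {p : HP} (hp : p ≠ 0) : cnt hcov p = cnt hcov (rep (cls p)) :=
  eq_rep (cnt hcov) (cnt_act hcov) hp

end Cfsg.Agent.Lib.U62J
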