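import Cfsg.Agent.Lib.G24.Field
import Cfsg.Agent.Lib.UnitaryFour.Lifting

/-!
U62J/Coords: the stabiliser of a maximal totally isotropic subspace in `SU(6, 2)` in coordinates of a
hyperbolic basis: the radical as Hermitian matrices, the Levi part, Weyl elements, the normaliser.
-/

set_option autoImplicit false
set_option linter.unusedSectionVars false
set_option linter.style.haveILetI false
set_option linter.unusedSimpArgs false
set_option maxRecDepth 20000

namespace Cfsg.Agent.Lib.U62J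

open Matrix
open Cfsg.Agent.Lib.G24 (K4)

theorem card_K4 : Fintype.card K4 = 2 ^ 2 := by rw [K4.card_eq]; rfl

/-- conjugation of `K4` -/
def cj : K4 →+* K4 where
  toFun x := x * x
  map_one' := by decide +kernel
  map_mul' := by decide +kernel
  map_zero' := by decide +kernel
  map_add' := by decide +kernel

theorem cj_cj : ∀ x : K4, cj (cj x) = x := by decide +kernel

theorem cj_sq : ∀ x : K4, cj x = x ^ 2 := fun x => (sq x).symm

theorem add_self : ∀ x : K4, x + x = 0 := by decide +kernel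

/-- conjugate transpose -/
def ct {m n : Type*} (M : Matrix m n K4) : Matrix n m K4 := (M.map cj)ᵀ

theorem ct_mul {l m n : Type*} [Fintype m] (A : Matrix l m K4) (B : Matrix m n K4) :
    ct (A * B) = ct B * ct A := by
  rw [ct, ct, ct, Matrix.map_mul, Matrix.transpose_mul]

theorem ct_ct {m n : Type*} (A : Matrix m n K4) : ct (ct A) = A := by
  ext i j; simp [ct, cj_cj]

theorem ct_one {m : Type*} [DecidableEq m] : ct (1 : Matrix m m K4) = 1 := by
  rw [ct, Matrix.map_one _ (map_zero _) (map_one _), Matrix.transpose_one]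

theorem ct_zero {m n : Type*} : ct (0 : Matrix m n K4) = 0 := by ext i j; simp [ct]

theorem ct_add {m n : Type*} (A B : Matrix m n K4) : ct (A + B) = ct A + ct B := by
  ext i j; simp [ct]

theorem det_ct {m : Type*} [DecidableEq m] [Fintype m] (A : Matrix m m K4) :
    (ct A).det = cj A.det := by
  rw [ct, Matrix.det_transpose, RingHom.map_det]; rfl

theorem madd_self {m n : Type*} (A : Matrix m n K4) : A + A = 0 := by
  ext i j; simp [add_self]

/-- block matrices on six coordinates -/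
def blk (g X Y h : Matrix (Fin 3) (Fin 3) K4) : Matrix (Fin 6) (Fin 6) K4 :=
  (fromBlocks g X Y h).submatrix (finSumFinEquiv (m := 3) (n := 3)).symm
    (finSumFinEquiv (m := 3) (n := 3)).symm

theorem blk_mul (g X Y h g' X' Y' h' : Matrix (Fin 3) (Fin 3) K4) :
    blk g X Y h * blk g' X' Y' h' =
      blk (g * g' + X * Y') (g * X' + X * h') (Y * g' + h * Y') (Y * X' + h * h') := by
  rw [blk, blk, Matrix.submatrix_mul_equiv, fromBlocks_multiply]; rfl

theorem blk_one : blk 1 0 0 1 = 1 := by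
  rw [blk, fromBlocks_one, Matrix.submatrix_one_equiv]

theorem ct_blk (g X Y h : Matrix (Fin 3) (Fin 3) K4) :
    ct (blk g X Y h) = blk (ct g) (ct Y) (ct X) (ct h) := by
  rw [ct, blk, blk, ← Matrix.submatrix_map, Matrix.transpose_submatrix, fromBlocks_map,
    fromBlocks_transpose]
  rfl

theorem blk_inj {g X Y h g' X' Y' h' : Matrix (Fin 3) (Fin 3) K4}
    (e : blk g X Y h = blk g' X' Y' h') : g = g' ∧ X = X' ∧ Y = Y' ∧ h = h' := by
  have := congrArg (fun M : Matrix (Fin 6) (Fin 6) K4 =>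
    M.submatrix (finSumFinEquiv (m := 3) (n := 3)) (finSumFinEquiv (m := 3) (n := 3))) e
  simp [blk, Matrix.submatrix_submatrix] at this
  exact this

theorem exists_blk (M : Matrix (Fin 6) (Fin 6) K4) : ∃ g X Y h, M = blk g X Y h := by
  refine ⟨(M.submatrix (finSumFinEquiv (m := 3) (n := 3)) (finSumFinEquiv (m := 3) (n := 3))).toBlocks₁₁,
    (M.submatrix (finSumFinEquiv (m := 3) (n := 3)) (finSumFinEquiv (m := 3) (n := 3))).toBlocks₁₂,
    (M.submatrix (finSumFinEquiv (m := 3) (n := 3)) (finSumFinEquiv (m := 3) (n := 3))).toBlocks₂₁,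
    (M.submatrix (finSumFinEquiv (m := 3) (n := 3)) (finSumFinEquiv (m := 3) (n := 3))).toBlocks₂₂, ?_⟩
  rw [blk, fromBlocks_toBlocks]
  simp [Matrix.submatrix_submatrix]

theorem det_blk (g X h : Matrix (Fin 3) (Fin 3) K4) : (blk g X 0 h).det = g.det * h.det := by
  rw [blk, Matrix.det_submatrix_equiv_self, det_fromBlocks_zero₂₁]

/-- the hyperbolic Gram matrix -/
def Jm : Matrix (Fin 6) (Fin 6) K4 := blk 0 1 1 0

/-- the hyperbolic basis as columns -/
def Pm : Matrix (Fin 6) (Fin 6) K4 :=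
  !![1, 0, 0, K4.w, 0, 0; 1, 0, 0, K4.v, 0, 0; 0, 1, 0, 0, K4.w, 0;
    0, 1, 0, 0, K4.v, 0; 0, 0, 1, 0, 0, K4.w; 0, 0, 1, 0, 0, K4.v]

/-- its inverse -/
def Qm : Matrix (Fin 6) (Fin 6) K4 := Jm * ct Pm

theorem PQ : Pm * Qm = 1 := by decide +kernel

theorem QP : Qm * Pm = 1 := by decide +kernel

theorem PP : ct Pm * Pm = Jm := by decide +kernel

theorem QJQ : ct Qm * Jm * Qm = 1 := by decide +kernel

/-- in hyperbolic coordinates -/
def Good (M : Matrix (Fin 6) (Fin 6) K4) : Prop := ct M * Jm * M = Jm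

theorem herm_eq (u v : Fin 6 → K4) : hermForm 6 K4 2 u v = u ⬝ᵥ (cj ∘ v) := by
  simp [hermForm, dotProduct, cj_sq]

theorem herm_of_ct {A : Matrix (Fin 6) (Fin 6) K4} (h : ct A * A = 1) (u v : Fin 6 → K4) :
    hermForm 6 K4 2 (A *ᵥ u) (A *ᵥ v) = hermForm 6 K4 2 u v := by
  have h1 : Aᵀ * A.map cj = 1 := by
    have h2 : (ct A * A).map cj = (1 : Matrix (Fin 6) (Fin 6) K4).map cj := by rw [h]
    rw [Matrix.map_mul, Matrix.map_one _ (map_zero _) (map_one _)] at h2
    convert h2 using 2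
    ext i j; simp [ct, cj_cj]
  have h3 : cj ∘ (A *ᵥ v) = A.map cj *ᵥ (cj ∘ v) := funext fun i => RingHom.map_mulVec cj A v i
  rw [herm_eq, herm_eq, h3, Matrix.dotProduct_mulVec, ← Matrix.mulVec_transpose, Matrix.mulVec_mulVec]
  have h4 : (A.map cj)ᵀ * A = 1 := h
  rw [h4, Matrix.one_mulVec]

theorem ct_of_herm {A : Matrix (Fin 6) (Fin 6) K4}
    (h : ∀ u v, hermForm 6 K4 2 (A *ᵥ u) (A *ᵥ v) = hermForm 6 K4 2 u v) : ct A * A = 1 := by
  ext i j
  have := h (Pi.single j 1) (Pi.single i 1)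
  rw [herm_eq, herm_eq] at this
  simp only [Matrix.mulVec_single_one] at this
  rw [Matrix.mul_apply]
  have hr : (∑ k, ct A i k * A k j) = Matrix.col A j ⬝ᵥ (cj ∘ Matrix.col A i) :=
    Finset.sum_congr rfl fun k _ => by simp [ct, mul_comm]
  rw [hr, this]
  simp [dotProduct, Pi.single_apply, Matrix.one_apply, eq_comm, apply_ite cj]

/-- the element with given hyperbolic coordinates -/
def mkSU (M : Matrix (Fin 6) (Fin 6) K4) (h : Good M) (hd : M.det = 1) : SU 6 K4 2 :=
  ⟨⟨Pm * M * Qm, by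
      rw [Matrix.det_mul, Matrix.det_mul, hd, mul_one, ← Matrix.det_mul, PQ, Matrix.det_one]⟩,
    fun u v => herm_of_ct (A := Pm * M * Qm) (by
      rw [ct_mul, ct_mul]
      calc ct Qm * (ct M * ct Pm) * (Pm * M * Qm) = ct Qm * (ct M * (ct Pm * Pm) * M) * Qm := by
            simp only [Matrix.mul_assoc]
        _ = 1 := by rw [PP, show ct M * Jm * M = Jm from h, QJQ]) u v⟩

/-- hyperbolic coordinates -/
def co (A : SU 6 K4 2) : Matrix (Fin 6) (Fin 6) K4 := Qm * A.1.1 * Pm

theorem co_mk (M : Matrix (Fin 6) (Fin 6) K4) (h : Good M) (hd : M.det = 1) : co (mkSU M h hd) = M := by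
  show Qm * (Pm * M * Qm) * Pm = M
  calc Qm * (Pm * M * Qm) * Pm = (Qm * Pm) * M * (Qm * Pm) := by simp only [Matrix.mul_assoc]
    _ = M := by rw [QP, Matrix.one_mul, Matrix.mul_one]

theorem co_mul (A B : SU 6 K4 2) : co (A * B) = co A * co B := by
  show Qm * (A.1.1 * B.1.1) * Pm = Qm * A.1.1 * Pm * (Qm * B.1.1 * Pm)
  calc Qm * (A.1.1 * B.1.1) * Pm = Qm * A.1.1 * (1 * B.1.1) * Pm := by
        simp only [Matrix.mul_assoc, Matrix.one_mul]
    _ = _ := by rw [← PQ]; simp only [Matrix.mul_assoc]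

theorem co_one : co 1 = 1 := by
  show Qm * 1 * Pm = 1
  rw [Matrix.mul_one, QP]

theorem co_inj {A B : SU 6 K4 2} (h : co A = co B) : A = B := by
  refine Subtype.ext (Subtype.ext ?_)
  calc A.1.1 = (Pm * Qm) * A.1.1 * (Pm * Qm) := by rw [PQ, Matrix.one_mul, Matrix.mul_one]
    _ = Pm * (co A) * Qm := by simp only [co, Matrix.mul_assoc]
    _ = Pm * (co B) * Qm := by rw [h]
    _ = (Pm * Qm) * B.1.1 * (Pm * Qm) := by simp only [co, Matrix.mul_assoc]
    _ = B.1.1 := by rw [PQ, Matrix.one_mul, Matrix.mul_one]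

theorem co_good (A : SU 6 K4 2) : Good (co A) := by
  have h : ct A.1.1 * A.1.1 = 1 := ct_of_herm A.2
  show ct (Qm * A.1.1 * Pm) * Jm * (Qm * A.1.1 * Pm) = Jm
  calc ct (Qm * A.1.1 * Pm) * Jm * (Qm * A.1.1 * Pm)
      = ct Pm * (ct A.1.1 * (ct Qm * Jm * Qm) * A.1.1) * Pm := by
        rw [ct_mul, ct_mul]; simp only [Matrix.mul_assoc]
    _ = Jm := by rw [QJQ, Matrix.mul_one, h, Matrix.mul_one, PP]

theorem co_det (A : SU 6 K4 2) : (co A).det = 1 := by
  show (Qm * A.1.1 * Pm).det = 1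
  rw [Matrix.det_mul, Matrix.det_mul, A.1.2, mul_one, ← Matrix.det_mul, QP, Matrix.det_one]

/-! ### Hermitian matrices -/

/-- parameters of Hermitian 3 × 3 matrices -/
abbrev HP := ZMod 2 × ZMod 2 × ZMod 2 × K4 × K4 × K4

/-- the prime field -/
def em (x : ZMod 2) : K4 := if x = 0 then 0 else 1

/-- back -/
def un (x : K4) : ZMod 2 := if x = 0 then 0 else 1

theorem em_add : ∀ x y : ZMod 2, em (x + y) = em x + em y := by decide +kernel

theorem un_em : ∀ x : ZMod 2, un (em x) = x := by decide +kernel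

theorem cj_em : ∀ x : ZMod 2, cj (em x) = em x := by decide +kernel

theorem em_un : ∀ x : K4, cj x = x → em (un x) = x := by decide +kernel

/-- the matrix -/
def mat : HP → Matrix (Fin 3) (Fin 3) K4
  | (a, b, c, x, y, z) => !![em a, x, y; cj x, em b, z; cj y, cj z, em c]

/-- the parameters -/
def toP (M : Matrix (Fin 3) (Fin 3) K4) : HP :=
  (un (M 0 0), un (M 1 1), un (M 2 2), M 0 1, M 0 2, M 1 2)

theorem toP_mat (p : HP) : toP (mat p) = p := by
  obtain ⟨a, b, c, x, y, z⟩ := p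
  simp [toP, mat, un_em]

theorem ct_mat (p : HP) : ct (mat p) = mat p := by
  obtain ⟨a, b, c, x, y, z⟩ := p
  ext i j
  fin_cases i <;> fin_cases j <;> simp [ct, mat, cj_em, cj_cj]

theorem mat_add (p p' : HP) : mat (p + p') = mat p + mat p' := by
  obtain ⟨a, b, c, x, y, z⟩ := p
  obtain ⟨a', b', c', x', y', z'⟩ := p'
  ext i j
  fin_cases i <;> fin_cases j <;> simp [mat, em_add]

theorem mat_zero : mat 0 = 0 := by decide +kernel

theorem mat_toP {M : Matrix (Fin 3) (Fin 3) K4} (h : ct M = M) : mat (toP M) = M := by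
  have e : ∀ i j, cj (M j i) = M i j := fun i j => congrFun (congrFun h i) j
  ext i j
  fin_cases i <;> fin_cases j <;> simp [mat, toP, em_un, e]

theorem toP_add (M N : Matrix (Fin 3) (Fin 3) K4) (hM : ct M = M) (hN : ct N = N) :
    toP (M + N) = toP M + toP N := by
  conv_lhs => rw [← mat_toP hM, ← mat_toP hN, ← mat_add, toP_mat]

theorem hp_add_self : ∀ p : HP, p + p = 0 := by
  rintro ⟨a, b, c, x, y, z⟩
  have h2 : ∀ t : ZMod 2, t + t = 0 := by decide
  simp [Prod.ext_iff, h2, add_self]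

abbrev SL3 := Matrix.SpecialLinearGroup (Fin 3) K4

/-- the action of the Levi part on the radical -/
def act (g : SL3) (p : HP) : HP := toP (g.1 * mat p * ct g.1)

theorem ct_conj (g : SL3) (p : HP) : ct (g.1 * mat p * ct g.1) = g.1 * mat p * ct g.1 := by
  rw [ct_mul, ct_mul, ct_ct, ct_mat, Matrix.mul_assoc]

theorem mat_act (g : SL3) (p : HP) : mat (act g p) = g.1 * mat p * ct g.1 := mat_toP (ct_conj g p)

theorem act_add (g : SL3) (p p' : HP) : act g (p + p') = act g p + act g p' := by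
  rw [act, mat_add, Matrix.mul_add, Matrix.add_mul, toP_add _ _ (ct_conj g p) (ct_conj g p')]; rfl

theorem act_zero (g : SL3) : act g 0 = 0 := by
  simp [act, mat_zero, toP, un]

theorem act_one (p : HP) : act 1 p = p := by simp [act, ct_one, toP_mat]

theorem act_mul (g g' : SL3) (p : HP) : act (g * g') p = act g (act g' p) := by
  show toP ((g * g' : SL3).1 * mat p * ct (g * g' : SL3).1) = toP (g.1 * mat (act g' p) * ct g.1)
  rw [mat_act, Matrix.SpecialLinearGroup.coe_mul, ct_mul]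
  simp only [Matrix.mul_assoc]

/-! ### Radical and Levi part -/

theorem good_blk {g h S : Matrix (Fin 3) (Fin 3) K4} (hgh : ct g * h = 1) (hS : ct S = S) :
    Good (blk g (S * h) 0 h) := by
  have hhg : ct h * g = 1 := by
    have := congrArg ct hgh
    rwa [ct_mul, ct_ct, ct_one] at this
  rw [Good, ct_blk, Jm, blk_mul, blk_mul]
  simp [ct_zero, ct_mul, hS, hgh, hhg, Matrix.mul_assoc, madd_self]

theorem good_u (p : HP) : Good (blk 1 (mat p) 0 1) := by
  have := good_blk (g := 1) (h := 1) (by rw [ct_one, Matrix.one_mul]) (ct_mat p)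
  rwa [Matrix.mul_one] at this

/-- the radical -/
def u (p : HP) : SU 6 K4 2 := mkSU (blk 1 (mat p) 0 1) (good_u p) (by simp [det_blk])

theorem co_u (p : HP) : co (u p) = blk 1 (mat p) 0 1 := co_mk _ _ _

theorem u_add (p p' : HP) : u (p + p') = u p * u p' :=
  co_inj (by simp [co_mul, co_u, blk_mul, mat_add, add_comm])

theorem u_zero : u 0 = 1 := co_inj (by rw [co_u, co_one, mat_zero, blk_one])

theorem u_inj {p p' : HP} (h : u p = u p') : p = p' := by
  have := congrArg co h
  rw [co_u, co_u] at this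
  rw [← toP_mat p, (blk_inj this).2.1, toP_mat]

theorem ct_inv (g : SL3) : ct g.1 * ct (g⁻¹).1 = 1 := by
  rw [← ct_mul, ← Matrix.SpecialLinearGroup.coe_mul, inv_mul_cancel,
    Matrix.SpecialLinearGroup.coe_one, ct_one]

theorem good_l (g : SL3) : Good (blk g.1 0 0 (ct (g⁻¹).1)) := by
  have := good_blk (S := 0) (ct_inv g) (by rw [ct_zero])
  rwa [Matrix.zero_mul] at this

/-- the Levi part -/
def l : SL3 →* SU 6 K4 2 where
  toFun g := mkSU (blk g.1 0 0 (ct (g⁻¹).1)) (good_l g)
    (by rw [det_blk, det_ct, (g⁻¹).2, g.2, map_one, one_mul])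
  map_one' := co_inj (by rw [co_mk, co_one, inv_one, Matrix.SpecialLinearGroup.coe_one, ct_one, blk_one])
  map_mul' g g' := co_inj (by
    rw [co_mul, co_mk, co_mk, co_mk, blk_mul, _root_.mul_inv_rev,
      Matrix.SpecialLinearGroup.coe_mul, Matrix.SpecialLinearGroup.coe_mul, ct_mul]
    simp)

theorem co_l (g : SL3) : co (l g) = blk g.1 0 0 (ct (g⁻¹).1) :=
  co_mk _ (good_l g) (by rw [det_blk, det_ct, (g⁻¹).2, g.2, map_one, one_mul])

theorem l_u (g : SL3) (p : HP) : l g * u p = u (act g p) * l g := by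
  refine co_inj ?_
  rw [co_mul, co_mul, co_u, co_u, co_l, blk_mul, blk_mul, mat_act]
  simp only [Matrix.mul_assoc, ct_inv, Matrix.mul_zero, Matrix.zero_mul, Matrix.mul_one, Matrix.one_mul,
    add_zero, zero_add]

theorem ul_inj {p p' : HP} {g g' : SL3} (h : u p * l g = u p' * l g') : p = p' ∧ g = g' := by
  have h2 := congrArg co h
  simp only [co_mul, co_u, co_l, blk_mul] at h2
  simp at h2
  have hg : g = g' := Subtype.ext (blk_inj h2).1
  subst hg
  exact ⟨u_inj (mul_right_cancel h), rfl⟩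

theorem ul_mul (p p' : HP) (g g' : SL3) :
    u p * l g * (u p' * l g') = u (p + act g p') * l (g * g') := by
  rw [mul_assoc, ← mul_assoc (l g), l_u, u_add, map_mul]
  group

theorem det_one_of : ∀ x y : K4, x * y = 1 → cj x * y = 1 → x = 1 := by decide +kernel

/-- the normaliser of the radical -/
theorem exists_ul {s : SU 6 K4 2} (h : ∀ p, ∃ p', s * u p = u p' * s) : ∃ p g, s = u p * l g := by
  obtain ⟨g, X, Y, k, hco⟩ := exists_blk (co s)
  obtain ⟨p', hp'⟩ := h (1, 1, 1, 0, 0, 0)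
  have h1 : mat (1, 1, 1, 0, 0, 0) = 1 := by decide +kernel
  have e := congrArg co hp'
  simp only [co_mul, hco, co_u, blk_mul, h1, Matrix.one_mul, Matrix.mul_one, Matrix.mul_zero,
    Matrix.zero_mul, add_zero, zero_add] at e
  have hY : Y = 0 := by simpa using (blk_inj e).2.2.2
  subst hY
  have hgood := co_good s
  rw [hco, Good, ct_blk, Jm, blk_mul, blk_mul] at hgood
  simp only [ct_zero, Matrix.zero_mul, Matrix.mul_zero, Matrix.mul_one, zero_add, add_zero] at hgood
  obtain ⟨-, hgh, -, hX⟩ := blk_inj hgood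
  have hdet := co_det s
  rw [hco, det_blk] at hdet
  have hd2 : cj g.det * k.det = 1 := by rw [← det_ct, ← Matrix.det_mul, hgh, Matrix.det_one]
  have hgd : g.det = 1 := det_one_of _ _ hdet hd2
  let G0 : SL3 := ⟨g, hgd⟩
  have hk : k = ct (G0⁻¹).1 := by
    have := congrArg (fun M => ct (G0⁻¹).1 * M) hgh
    simp only [← Matrix.mul_assoc, Matrix.mul_one] at this
    rw [← ct_mul] at this
    have hi : g * (G0⁻¹).1 = 1 := by
      rw [show g = G0.1 from rfl, ← Matrix.SpecialLinearGroup.coe_mul, mul_inv_cancel,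
        Matrix.SpecialLinearGroup.coe_one]
    rw [hi, ct_one, Matrix.one_mul] at this
    exact this
  have hkg : k * ct g = 1 := mul_eq_one_comm.mp hgh
  have hgk : g * ct k = 1 := by
    have := congrArg ct hkg
    rwa [ct_mul, ct_ct, ct_one] at this
  have hS : ct (X * ct g) = X * ct g := by
    have h3 : g * (ct X * k + ct k * X) * ct g = 0 := by
      rw [add_comm, hX, Matrix.mul_zero, Matrix.zero_mul]
    have h4 : g * ct X + X * ct g = 0 := by
      calc g * ct X + X * ct g = g * ct X * (k * ct g) + (g * ct k) * X * ct g := by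
            rw [hkg, hgk, Matrix.mul_one, Matrix.one_mul]
        _ = g * (ct X * k + ct k * X) * ct g := by
            simp only [Matrix.mul_add, Matrix.add_mul, Matrix.mul_assoc]
        _ = 0 := h3
    rw [ct_mul, ct_ct]
    calc g * ct X = g * ct X + X * ct g + X * ct g := by rw [add_assoc, madd_self, add_zero]
      _ = X * ct g := by rw [h4, zero_add]
  refine ⟨toP (X * ct g), G0, co_inj ?_⟩
  rw [co_mul, co_u, co_l, hco, blk_mul, mat_toP hS, ← hk]
  simp [Matrix.mul_assoc, hgh, G0]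

/-! ### Unitriangular elements -/

/-- upper unitriangular elements -/
def ut (a b c : K4) : SL3 :=
  ⟨!![1, a, c; 0, 1, b; 0, 0, 1], by simp [Matrix.det_fin_three]⟩

theorem ut_mul (a b c a' b' c' : K4) :
    ut a b c * ut a' b' c' = ut (a + a') (b + b') (c + c' + a * b') := by
  refine Subtype.ext ?_
  ext i j
  rw [Matrix.SpecialLinearGroup.coe_mul]
  fin_cases i <;> fin_cases j <;> simp [ut, Matrix.mul_apply, Fin.sum_univ_three] <;> ring

theorem ut_zero : ut 0 0 0 = 1 := by decide +kernel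

theorem ut_inj {a b c a' b' c' : K4} (h : ut a b c = ut a' b' c') : a = a' ∧ b = b' ∧ c = c' :=
  ⟨congrArg (fun g : SL3 => g.1 0 1) h, congrArg (fun g : SL3 => g.1 1 2) h,
    congrArg (fun g : SL3 => g.1 0 2) h⟩

/-- the lower root elements -/
def low (t : K4) : SL3 :=
  ⟨!![1, 0, 0; 0, 1, 0; 0, t, 1], by simp [Matrix.det_fin_three]⟩

/-- a diagonal element of order three -/
def dia : SL3 := ⟨!![1, 0, 0; 0, K4.w, 0; 0, 0, K4.v], by decide +kernel⟩

/-- transpositions -/
def t12 : SL3 := ⟨!![0, 1, 0; 1, 0, 0; 0, 0, 1], by decide +kernel⟩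

/-- transpositions -/
def t23 : SL3 := ⟨!![1, 0, 0; 0, 0, 1; 0, 1, 0], by decide +kernel⟩

theorem dia_pow : dia * dia * dia = 1 := by decide +kernel

end Cfsg.Agent.Lib.U62J
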