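import Cfsg.Agent.Lib.U62J.Image
import Cfsg.Prelude.Def_Transfer

/-!
U62J/Cover: a double cover of `PSU(6, 2)`: the preimage of a radical is the only elementary abelian
subgroup of largest order in a Sylow subgroup containing it.
-/

set_option autoImplicit false
set_option linter.unusedSectionVars false
set_option linter.style.haveILetI false

namespace Cfsg.Agent.Lib.U62J

open Cfsg.Agent.Lib.G24 (K4)

/-- a central extension by a group of order two -/
structure Cov {C : Type*} [Group C] (π : C →* Q6) (d : C) : Prop where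
  surj : Function.Surjective π
  ker_iff : ∀ x, π x = 1 ↔ x = 1 ∨ x = d
  dd : d * d = 1
  dne : d ≠ 1
  comm : ∀ y, d * y = y * d

/-- the radical as a subgroup -/
def UQ : Subgroup Q6 where
  carrier := Set.range uQ
  one_mem' := ⟨0, uQ_zero⟩
  mul_mem' := by rintro _ _ ⟨p, rfl⟩ ⟨p', rfl⟩; exact ⟨_, uQ_add p p'⟩
  inv_mem' := by rintro _ ⟨p, rfl⟩; exact ⟨p, (inv_eq_of_mul_eq_one_right (uQ_sq p)).symm⟩

theorem card_UQ : Nat.card UQ = 512 := by
  show Nat.card ↑(Set.range uQ) = _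
  rw [← Nat.card_congr (Equiv.ofInjective uQ fun _ _ h => uQ_inj h), Nat.card_eq_fintype_card, card_HP]

variable {C : Type*} [Group C] [Finite C] {π : C →* Q6} {d : C}

/-- preimage of the radical -/
def A0 (π : C →* Q6) : Subgroup C := UQ.comap π

/-- preimage of the Sylow subgroup -/
def TC (π : C →* Q6) : Subgroup C := TQ.comap π

theorem mem_A0 {x : C} : x ∈ A0 π ↔ ∃ p, uQ p = π x := Iff.rfl

theorem Cov.pid (h : Cov π d) : π d = 1 := (h.ker_iff d).mpr (Or.inr rfl)

theorem Cov.d_mem (h : Cov π d) : d ∈ A0 π := ⟨0, by rw [uQ_zero, h.pid]⟩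

theorem Cov.eq_or (h : Cov π d) {x y : C} (hxy : π x = π y) : x = y ∨ x = y * d := by
  rcases (h.ker_iff (y⁻¹ * x)).mp (by rw [map_mul, map_inv, hxy, inv_mul_cancel]) with h1 | h1
  · exact Or.inl (inv_mul_eq_one.mp h1).symm
  · exact Or.inr (by rw [← h1, mul_inv_cancel_left])

theorem Cov.ker_spec (h : Cov π d) (x : C) (hx : π x = 1) : x * x = 1 ∧ ∀ y, x * y = y * x := by
  rcases (h.ker_iff x).mp hx with rfl | rfl
  · simp
  · exact ⟨h.dd, h.comm⟩

theorem Cov.exists_lift_invol (h : Cov π d) (x : Q6) (hx : x * x = 1) : ∃ y : C, y * y = 1 ∧ π y = x :=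
  Cfsg.Agent.Lib.UnitaryFour.Lifting.exists_lift_sq_one π ph card_K4 le_rfl h.surj h.ker_spec
    ph_surjective ker_ph x hx

theorem Cov.A0_sq (h : Cov π d) {x : C} (hx : x ∈ A0 π) : x * x = 1 := by
  obtain ⟨p, hp⟩ := mem_A0.mp hx
  obtain ⟨y, hy, hyp⟩ := h.exists_lift_invol (π x) (by rw [← hp, uQ_sq])
  rcases h.eq_or hyp.symm with rfl | rfl
  · exact hy
  · calc y * d * (y * d) = y * (d * y) * d := by group
      _ = (y * y) * (d * d) := by rw [h.comm]; group
      _ = 1 := by rw [hy, h.dd, one_mul]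

theorem Cov.A0_inv (h : Cov π d) {x : C} (hx : x ∈ A0 π) : x⁻¹ = x :=
  inv_eq_of_mul_eq_one_right (h.A0_sq hx)

theorem Cov.A0_comm (h : Cov π d) {x y : C} (hx : x ∈ A0 π) (hy : y ∈ A0 π) : x * y = y * x := by
  have h1 := h.A0_inv (mul_mem hx hy)
  rw [_root_.mul_inv_rev, h.A0_inv hx, h.A0_inv hy] at h1
  exact h1.symm

theorem Cov.A0_elem (h : Cov π d) : Cfsg.IsElementaryAbelian 2 (A0 π) :=
  ⟨⟨⟨fun x y => Subtype.ext (h.A0_comm x.2 y.2)⟩⟩, fun a ha => by rw [sq]; exact h.A0_sq ha⟩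

theorem Cov.card_comap (h : Cov π d) (H : Subgroup Q6) : Nat.card (H.comap π) = 2 * Nat.card H := by
  let f : ↥(H.comap π) →* ↥H := π.subgroupComap H
  have hf : Function.Surjective f := fun y => by
    obtain ⟨x, hx⟩ := h.surj (y : Q6)
    exact ⟨⟨x, by rw [Subgroup.mem_comap, hx]; exact y.2⟩, Subtype.ext hx⟩
  have hk : Nat.card f.ker = 2 := by
    have h1 : ((f.ker : Set ↥(H.comap π))) = {1, ⟨d, by rw [Subgroup.mem_comap, h.pid]; exact one_mem _⟩} := by
      ext x
      constructor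
      · intro hx
        have hx1 : π (x : C) = 1 := congrArg Subtype.val (MonoidHom.mem_ker.mp hx)
        rcases (h.ker_iff _).mp hx1 with e | e
        · exact Or.inl (Subtype.ext e)
        · exact Or.inr (Subtype.ext e)
      · rintro (rfl | rfl)
        · exact one_mem _
        · exact MonoidHom.mem_ker.mpr (Subtype.ext h.pid)
    show Nat.card ↑(f.ker : Set ↥(H.comap π)) = 2
    rw [h1, Nat.card_coe_set_eq, Set.ncard_pair]
    exact fun e => h.dne (congrArg Subtype.val e).symm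
  rw [← Subgroup.card_mul_index f.ker, Subgroup.index_ker, hk,
    MonoidHom.range_eq_top.mpr hf, Subgroup.card_top]

theorem Cov.card_A0 (h : Cov π d) : Nat.card (A0 π) = 2 ^ 10 := by
  rw [A0, h.card_comap, card_UQ]; norm_num

theorem Cov.card_TC (h : Cov π d) : Nat.card (TC π) = 2 ^ 16 := by
  rw [TC, h.card_comap, card_TQ]; norm_num

theorem Cov.card_C (h : Cov π d) : Nat.card C = 2 ^ 16 * 280665 := by
  have := h.card_comap ⊤
  rw [Subgroup.comap_top, Subgroup.card_top, Subgroup.card_top, card_Q6] at this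
  rw [this]; ring

theorem Cov.index_TC (h : Cov π d) : (TC π).index = 280665 := by
  have := (TC π).card_mul_index
  rw [h.card_TC, h.card_C] at this
  exact Nat.eq_of_mul_eq_mul_left (by norm_num) this

/-- the Sylow subgroup -/
noncomputable def Cov.syl (h : Cov π d) : Sylow 2 C :=
  (IsPGroup.of_card (n := 16) h.card_TC).toSylow (by rw [h.index_TC]; norm_num)

theorem Cov.coe_syl (h : Cov π d) : (h.syl : Subgroup C) = TC π := rfl

theorem A0_le_TC : A0 π ≤ TC π := by
  intro x hx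
  obtain ⟨p, hp⟩ := mem_A0.mp hx
  show π x ∈ TQ
  rw [← hp]
  exact uQ_mem_TQ p

/-- counting pairwise commuting involutive parameters -/
theorem card_commuting_lt (X : Finset TP)
    (hc : ∀ x ∈ X, ∀ y ∈ X, x.1 + act (ut x.2.1 x.2.2.1 x.2.2.2) y.1 = y.1 + act (ut y.2.1 y.2.2.1 y.2.2.2) x.1 ∧
      x.2.1 * y.2.2.1 = y.2.1 * x.2.2.1)
    (hi : ∀ x ∈ X, x.2.1 * x.2.2.1 = 0) (hne : ∃ x ∈ X, x.2 ≠ 0) : X.card ≤ 256 := by
  classical
  set K := X.image Prod.snd with hK
  have hdiff : ∀ x ∈ X, ∀ y ∈ X, x.2 = y.2 → ∀ z ∈ X,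
      act (ut z.2.1 z.2.2.1 z.2.2.2) (x.1 + y.1) = x.1 + y.1 := by
    intro x hx y hy hxy z hz
    have h1 := (hc x hx z hz).1
    have h2 := (hc y hy z hz).1
    rw [← hxy] at h2
    set g := act (ut x.2.1 x.2.2.1 x.2.2.2) z.1
    calc act (ut z.2.1 z.2.2.1 z.2.2.2) (x.1 + y.1)
        = act (ut z.2.1 z.2.2.1 z.2.2.2) x.1 + act (ut z.2.1 z.2.2.1 z.2.2.2) y.1 := act_add _ _ _
      _ = (z.1 + act (ut z.2.1 z.2.2.1 z.2.2.2) x.1) + (z.1 + act (ut z.2.1 z.2.2.1 z.2.2.2) y.1) := by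
          rw [add_add_add_comm, hp_add_self z.1, zero_add]
      _ = (x.1 + g) + (y.1 + g) := by rw [h1, h2]
      _ = x.1 + y.1 := by rw [add_add_add_comm, hp_add_self g, add_zero]
  have hfib : ∀ (m : ℕ) (P : HP → Prop) [DecidablePred P], (Finset.univ.filter P).card ≤ m →
      (∀ x ∈ X, ∀ y ∈ X, x.2 = y.2 → P (x.1 + y.1)) → X.card ≤ m * K.card := by
    intro m P _ hm hP
    refine Finset.card_le_mul_card_image X m fun k hk => ?_
    obtain ⟨x0, hx0, rfl⟩ := Finset.mem_image.mp hk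
    refine le_trans (Finset.card_le_card_of_injOn (fun x : TP => x.1 + x0.1) ?_ ?_) hm
    · intro x hx
      simp only [Finset.coe_filter, Set.mem_ofPred_eq] at hx
      simp only [Finset.coe_filter, Set.mem_ofPred_eq, Finset.mem_univ, true_and]
      exact hP x hx.1 x0 hx0 hx.2
    · intro x hx y hy e
      simp only [Finset.coe_filter, Set.mem_ofPred_eq] at hx hy
      exact Prod.ext (add_right_cancel e) (hx.2.trans hy.2.symm)
  -- the nontrivial second components lie in one of two groups of order sixteen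
  have hside : (∀ x ∈ X, x.2.1 = 0) ∨ (∀ x ∈ X, x.2.2.1 = 0) := by
    by_cases ha : ∀ x ∈ X, x.2.1 = 0
    · exact Or.inl ha
    · push Not at ha
      obtain ⟨x, hx, hxa⟩ := ha
      refine Or.inr fun y hy => ?_
      have hb := (mul_eq_zero.mp (hi x hx)).resolve_left hxa
      have := (hc x hx y hy).2
      rw [hb, mul_zero] at this
      exact (mul_eq_zero.mp this).resolve_left hxa
  obtain ⟨x1, hx1, hx1'⟩ := hne
  have h32 := ((fix_le x1.2.1 x1.2.2.1 x1.2.2.2).resolve_left fun hh => hx1'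
    (Prod.ext hh.1 (Prod.ext hh.2.1 hh.2.2))).resolve_left fun hh => hh (hi x1 hx1)
  have hsmall := hfib 32 _ h32 fun x hx y hy e => hdiff x hx y hy e x1 hx1
  by_cases h8 : K.card ≤ 8
  · omega
  -- otherwise every centre element is a product of two members
  obtain ⟨W, hW, hKW, hWadd⟩ : ∃ W : Finset (K4 × K4 × K4), W.card = 16 ∧ K ⊆ W ∧
      ∀ t : K4, ∀ k ∈ W, k + (0, 0, t) ∈ W := by
    rcases hside with hs | hs
    · refine ⟨Finset.univ.filter fun k => k.1 = 0, by decide +kernel, fun k hk => ?_, ?_⟩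
      · obtain ⟨x, hx, rfl⟩ := Finset.mem_image.mp hk
        simp [hs x hx]
      · intro t k hk
        simp at hk ⊢
        exact hk
    · refine ⟨Finset.univ.filter fun k => k.2.1 = 0, by decide +kernel, fun k hk => ?_, ?_⟩
      · obtain ⟨x, hx, rfl⟩ := Finset.mem_image.mp hk
        simp [hs x hx]
      · intro t k hk
        simp at hk ⊢
        exact hk
  have hcen : ∀ t : K4, ∀ x ∈ X, ∀ y ∈ X, x.2 = y.2 → act (ut 0 0 t) (x.1 + y.1) = x.1 + y.1 := by
    intro t x hx y hy hxy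
    have hsub : K.image (fun k => k + (0, 0, t)) ⊆ W := fun k hk => by
      obtain ⟨k', hk', rfl⟩ := Finset.mem_image.mp hk
      exact hWadd t k' (hKW hk')
    have hcard : (K.image fun k => k + (0, 0, t)).card = K.card :=
      Finset.card_image_of_injective _ fun _ _ e => add_right_cancel e
    obtain ⟨k, hk⟩ : (K ∩ K.image fun k => k + (0, 0, t)).Nonempty := by
      rw [← Finset.card_pos]
      have h1 := Finset.card_union_add_card_inter K (K.image fun k => k + (0, 0, t))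
      have h2 := Finset.card_le_card (Finset.union_subset hKW hsub)
      omega
    obtain ⟨hk1, hk2⟩ := Finset.mem_inter.mp hk
    obtain ⟨k', hk', rfl⟩ := Finset.mem_image.mp hk2
    obtain ⟨z, hz, hzk⟩ := Finset.mem_image.mp hk1
    obtain ⟨z', hz', rfl⟩ := Finset.mem_image.mp hk'
    have e1 := hdiff x hx y hy hxy z hz
    have e2 := hdiff x hx y hy hxy z' hz'
    have hm : ut z.2.1 z.2.2.1 z.2.2.2 * ut z'.2.1 z'.2.2.1 z'.2.2.2 = ut 0 0 t := by
      rw [ut_mul, hzk]
      simp only [Prod.fst_add, Prod.snd_add, add_zero, add_self, hi z' hz']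
      rw [add_right_comm, add_self, zero_add]
    rw [← hm, act_mul, e2, e1]
  have h16 := hfib 16 (fun p => act (ut 0 0 1) p = p ∧ act (ut 0 0 K4.w) p = p)
    (by convert fix_centre) fun x hx y hy e => ⟨hcen 1 x hx y hy e, hcen K4.w x hx y hy e⟩
  have := Finset.card_le_card hKW
  omega

theorem Cov.elem_le (h : Cov π d) {B : Subgroup C} (hB : Cfsg.IsElementaryAbelian 2 B) (hBT : B ≤ TC π) :
    B ≤ A0 π ∨ Nat.card B < 2 ^ 10 := by
  classical
  let := Fintype.ofFinite C
  have hpar : ∀ b ∈ B, ∃ x : TP, ph (tel x) = π b := fun b hb => hBT hb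
  choose! f hf using hpar
  set X : Finset TP := (Finset.univ.filter fun b : C => b ∈ B).image f
  by_cases hne : ∃ x ∈ X, x.2 ≠ 0
  · right
    have hmem : ∀ x ∈ X, ∃ b ∈ B, ph (tel x) = π b := by
      intro x hx
      obtain ⟨b, hb, rfl⟩ := Finset.mem_image.mp hx
      simp at hb
      exact ⟨b, hb, hf b hb⟩
    have hX := card_commuting_lt X (fun x hx y hy => by
      obtain ⟨b, hb, hbx⟩ := hmem x hx
      obtain ⟨b', hb', hby⟩ := hmem y hy
      have hcm : b * b' = b' * b := congrArg Subtype.val (hB.1.is_comm.comm ⟨b, hb⟩ ⟨b', hb'⟩)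
      have h0 : ph (tel (x.1 + act (ut x.2.1 x.2.2.1 x.2.2.2) y.1, x.2.1 + y.2.1, x.2.2.1 + y.2.2.1,
          x.2.2.2 + y.2.2.2 + x.2.1 * y.2.2.1)) = ph (tel (y.1 + act (ut y.2.1 y.2.2.1 y.2.2.2) x.1,
          y.2.1 + x.2.1, y.2.2.1 + x.2.2.1, y.2.2.2 + x.2.2.2 + y.2.1 * x.2.2.1)) := by
        rw [← tel_mul x y, ← tel_mul y x, map_mul, map_mul, hbx, hby, ← map_mul, hcm, map_mul]
      have h1 := ph_tel_inj h0
      refine ⟨congrArg Prod.fst h1, ?_⟩
      have h3 := congrArg (fun z : TP => z.2.2.2) h1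
      simp only at h3
      rw [add_comm x.2.2.2] at h3
      exact add_left_cancel h3) (fun x hx => by
      obtain ⟨b, hb, hbx⟩ := hmem x hx
      have hb2 : b * b = 1 := by rw [← sq]; exact hB.2 b hb
      have h0 : ph (tel (x.1 + act (ut x.2.1 x.2.2.1 x.2.2.2) x.1, x.2.1 + x.2.1, x.2.2.1 + x.2.2.1,
          x.2.2.2 + x.2.2.2 + x.2.1 * x.2.2.1)) = ph (tel 0) := by
        rw [← tel_mul x x, map_mul, hbx, ← map_mul, hb2, map_one, tel_zero, map_one]
      have h3 := congrArg (fun z : TP => z.2.2.2) (ph_tel_inj h0)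
      simp [add_self] at h3
      exact mul_eq_zero.mpr h3) hne
    have hBc : Nat.card B = (Finset.univ.filter fun b : C => b ∈ B).card := by
      rw [Nat.card_eq_fintype_card, Fintype.card_of_subtype]
      simp
    have h2 : (Finset.univ.filter fun b : C => b ∈ B).card ≤ 2 * X.card := by
      refine Finset.card_le_mul_card_image _ 2 fun x hx => ?_
      obtain ⟨b, hb, rfl⟩ := Finset.mem_image.mp hx
      simp at hb
      refine le_trans (Finset.card_le_card (t := {b, b * d}) ?_) Finset.card_le_two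
      intro b' hb'
      simp at hb'
      have he : π b' = π b := by rw [← hf b' hb'.1, ← hf b hb, hb'.2]
      rcases h.eq_or he with e | e <;> simp [e]
    omega
  · left
    push Not at hne
    intro b hb
    refine mem_A0.mpr ⟨(f b).1, ?_⟩
    have h2 : (f b).2 = 0 := hne (f b) (Finset.mem_image.mpr ⟨b, by simp [hb], rfl⟩)
    rw [← hf b hb, tel, h2]
    show ph (u _) = ph (u _ * l (ut 0 0 0))
    rw [ut_zero, map_one, mul_one]

theorem Cov.elem_TC_eq (h : Cov π d) {B : Subgroup C} (hB : Cfsg.IsElementaryAbelian 2 B)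
    (hBT : B ≤ TC π) (hc : 2 ^ 10 ≤ Nat.card B) : B = A0 π :=
  Subgroup.eq_of_le_of_card_ge ((h.elem_le hB hBT).resolve_right (by omega)) (by rw [h.card_A0]; exact hc)

/-- every elementary abelian subgroup of order at least 1024 is a conjugate of the standard one -/
theorem Cov.exists_conj_A0 (h : Cov π d) {B : Subgroup C} (hB : Cfsg.IsElementaryAbelian 2 B)
    (hc : 2 ^ 10 ≤ Nat.card B) : ∃ c : C, B = (A0 π).map (MulAut.conj c).toMonoidHom := by
  have := Fact.mk Nat.prime_two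
  have hp : IsPGroup 2 B := fun x => ⟨1, Subtype.ext (by simpa using hB.2 x x.2)⟩
  obtain ⟨S, hS⟩ := hp.exists_le_sylow
  obtain ⟨c, hcS⟩ := MulAction.exists_smul_eq C h.syl S
  have hSeq : (S : Subgroup C) = (TC π).map (MulAut.conj c).toMonoidHom := by rw [← hcS]; rfl
  refine ⟨c, ?_⟩
  have hiv : ∀ x, (MulAut.conj c) ((MulAut.conj c⁻¹) x) = x := fun x => by simp [mul_assoc]
  have h1 : B.map (MulAut.conj c⁻¹).toMonoidHom = A0 π := by
    refine h.elem_TC_eq ⟨⟨⟨?_⟩⟩, ?_⟩ ?_ ?_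
    · rintro ⟨_, x, hx, rfl⟩ ⟨_, y, hy, rfl⟩
      refine Subtype.ext ?_
      show _ * _ = _ * _
      rw [← map_mul, ← map_mul, show x * y = y * x from congrArg Subtype.val (hB.1.is_comm.comm ⟨x, hx⟩ ⟨y, hy⟩)]
    · rintro _ ⟨x, hx, rfl⟩
      rw [← map_pow, hB.2 x hx, map_one]
    · rintro _ ⟨x, hx, rfl⟩
      obtain ⟨t, ht, rfl⟩ := (hSeq ▸ hS) hx
      simpa [mul_assoc] using ht
    · rwa [Nat.card_congr (B.equivMapOfInjective _ (MulAut.conj c⁻¹).injective).toEquiv.symm]
  rw [← h1, Subgroup.map_map]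
  have : (MulAut.conj c).toMonoidHom.comp (MulAut.conj c⁻¹).toMonoidHom = MonoidHom.id C :=
    MonoidHom.ext fun x => hiv x
  rw [this, Subgroup.map_id]

/-- an involution of the cover is conjugate into the radical -/
theorem Cov.exists_conj_mem (h : Cov π d) {x : C} (hx : x * x = 1) : ∃ c : C, c * x * c⁻¹ ∈ A0 π := by
  obtain ⟨t, ht, htx⟩ := Cfsg.Agent.Lib.UnitaryFour.Classes.exists_sq_one_lift ph card_K4 ph_surjective
    ker_ph (π x) (by rw [← map_mul, hx, map_one])
  obtain ⟨s, p, hsp⟩ := exists_conj_u ht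
  obtain ⟨c, hc⟩ := h.surj (ph s)
  exact ⟨c, mem_A0.mpr ⟨p, by rw [map_mul, map_mul, map_inv, hc, ← htx, uQ, ← hsp, map_mul, map_mul, map_inv]⟩⟩

end Cfsg.Agent.Lib.U62J
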