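import Cfsg.Agent.Lib.U62J.Coords

/-!
U62J/Facts: finite computations with Hermitian matrices and unitriangular elements.
-/

set_option autoImplicit false
set_option maxRecDepth 100000
set_option maxHeartbeats 4000000
set_option synthInstance.maxSize 4000

namespace Cfsg.Agent.Lib.U62J

open Cfsg.Agent.Lib.G24 (K4)
open Matrix

theorem fix_le : ∀ a b c : K4, (a = 0 ∧ b = 0 ∧ c = 0) ∨ a * b ≠ 0 ∨
    (Finset.univ.filter fun p : HP => act (ut a b c) p = p).card ≤ 32 := by
  decide +kernel

theorem fix_centre : (Finset.univ.filter fun p : HP =>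
    act (ut 0 0 1) p = p ∧ act (ut 0 0 K4.w) p = p).card ≤ 16 := by
  decide +kernel

/-- the outer square of a vector -/
def outer (v : Fin 3 → K4) : HP := toP (Matrix.vecMulVec v (cj ∘ v))

theorem outer_eq_rep : ∀ x y z : K4, outer ![x, y, z] = (1, 0, 0, 0, 0, 0) → y = 0 ∧ z = 0 := by
  decide +kernel

/-- the form of rank one fixed by the stabiliser of the first point -/
def r1 : HP := (1, 0, 0, 0, 0, 0)

/-- second diagonal form -/
def p2 : HP := (0, 1, 0, 0, 0, 0)

/-- forms supported on the first row and column -/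
def Low (p : HP) : Prop := p.2.1 = 0 ∧ p.2.2.1 = 0 ∧ p.2.2.2.2.2 = 0

instance (p : HP) : Decidable (Low p) := by unfold Low; infer_instance

/-- difference under the action -/
def dAct (g : SL3) (p : HP) : HP := act g p + p

theorem dAct_low : ∀ b c : K4, ∀ (d : ZMod 2) (x y : K4),
    dAct (ut b 0 c) (d, 0, 0, x, y, 0) = 0 ∨ dAct (ut b 0 c) (d, 0, 0, x, y, 0) = r1 := by
  decide +kernel

theorem dAct_r1 : ∀ b c : K4, dAct (ut b 0 c) r1 = 0 := by decide +kernel

theorem dAct_p2 : ∀ b c : K4, Low (dAct (ut b 0 c) p2) := by decide +kernel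

theorem dAct_p2_ker : ∀ c : K4, dAct (ut 0 0 c) p2 = 0 := by decide +kernel

theorem dAct_dAct : dAct (ut K4.w 0 0) (dAct (ut 1 0 0) p2) = r1 := by decide +kernel

/-- the four members spanning the part off the first row and column -/
def topB : Fin 4 → HP := ![p2, act (ut 0 1 0) (act (low 1) p2), act (low 1) p2, act (low K4.w) p2]

theorem decomp : ∀ p : HP, ∃ i j k m : Fin 2,
    Low (p + (i.val • topB 0 + j.val • topB 1 + k.val • topB 2 + m.val • topB 3)) := by
  decide +kernel

theorem conj_dia : ∀ a c : K4, dia * ut a 0 c * (dia * dia) = ut (K4.v * a) 0 (K4.w * c) := by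
  decide +kernel

theorem conj_low : ∀ t a c : K4, low t * ut a 0 c * low t = ut (a + c * t) 0 c := by decide +kernel

theorem conj_mid : ∀ b a c : K4, ut 0 b 0 * ut a 0 c * ut 0 b 0 = ut a 0 (c + a * b) := by
  decide +kernel

theorem low_sq : ∀ t : K4, low t * low t = 1 := by decide +kernel

theorem comm_mid : ∀ b : K4, ∃ b' : K4, dia * ut 0 b' 0 * (dia * dia) * ut 0 b' 0 = ut 0 b 0 := by
  decide +kernel

theorem comm_low : ∀ t : K4, ∃ t' : K4, dia * low t' * (dia * dia) * low t' = low t := by decide +kernel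

theorem comm_q : ∀ a c : K4, ∃ a' c' : K4,
    dia * ut a' 0 c' * (dia * dia) * ut a' 0 c' = ut a 0 c := by
  decide +kernel

theorem fix_dia : act dia r1 = r1 := by decide +kernel

theorem fix_low : ∀ t : K4, act (low t) r1 = r1 := by decide +kernel

theorem fix_ut : ∀ a b c : K4, act (ut a b c) r1 = r1 := by decide +kernel

end Cfsg.Agent.Lib.U62J
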