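import Cfsg.Agent.Lib.U62J.Coords

/-!
U62J/Weyl: Weyl elements and their effect on root elements; every involution is conjugate into the
radical.
-/

set_option autoImplicit false
set_option linter.unusedSimpArgs false
set_option linter.style.haveILetI false
set_option maxRecDepth 100000
set_option maxHeartbeats 4000000

namespace Cfsg.Agent.Lib.U62J

open Matrix
open Cfsg.Agent.Lib.G24 (K4)
open Cfsg.Agent.Lib.Unitary Cfsg.Agent.Lib.UnitaryFour.Transvection

/-- a permutation matrix -/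
def permM (σ : Fin 6 → Fin 6) : Matrix (Fin 6) (Fin 6) K4 := fun i j => if σ i = j then 1 else 0

/-- exchange the last two pairs -/
def w12 : SU 6 K4 2 :=
  mkSU (permM ![0, 4, 5, 3, 1, 2]) (by unfold Good; decide +kernel) (by decide +kernel)

/-- exchange the last pair -/
def w2 : SU 6 K4 2 :=
  mkSU (permM ![0, 1, 5, 3, 4, 2]) (by unfold Good; decide +kernel) (by decide +kernel)

theorem w12_root_mat : ∀ a c : K4, permM ![0, 4, 5, 3, 1, 2] *
    blk 1 (mat (0, 0, 0, a, c, 0)) 0 1 * permM ![0, 4, 5, 3, 1, 2] =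
      blk (ut a 0 c).1 0 0 (ct ((ut a 0 c)⁻¹).1) := by
  decide +kernel

theorem w2_root_mat : ∀ b : K4, permM ![0, 1, 5, 3, 4, 2] *
    blk 1 (mat (0, 0, 0, 0, 0, b)) 0 1 * permM ![0, 1, 5, 3, 4, 2] =
      blk (ut 0 b 0).1 0 0 (ct ((ut 0 b 0)⁻¹).1) := by
  decide +kernel

theorem w12_inv : w12⁻¹ = w12 := inv_eq_of_mul_eq_one_right (co_inj (by
  rw [co_mul, co_one, w12, co_mk]; decide +kernel))

theorem w2_inv : w2⁻¹ = w2 := inv_eq_of_mul_eq_one_right (co_inj (by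
  rw [co_mul, co_one, w2, co_mk]; decide +kernel))

theorem w12_root (a c : K4) : w12 * u (0, 0, 0, a, c, 0) * w12⁻¹ = l (ut a 0 c) := by
  rw [w12_inv]
  refine co_inj ?_
  rw [co_mul, co_mul, co_u, co_l, w12, co_mk]
  exact w12_root_mat a c

theorem w2_root (b : K4) : w2 * u (0, 0, 0, 0, 0, b) * w2⁻¹ = l (ut 0 b 0) := by
  rw [w2_inv]
  refine co_inj ?_
  rw [co_mul, co_mul, co_u, co_l, w2, co_mk]
  exact w2_root_mat b

/-- coordinates of a vector -/
def crd (v : Fin 6 → K4) : Fin 6 → K4 := Qm *ᵥ v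

theorem crd_act (s : SU 6 K4 2) (v : Fin 6 → K4) : crd (UnitaryFour.Transvection.act s v) = co s *ᵥ crd v := by
  show Qm *ᵥ (s.1.1 *ᵥ v) = (Qm * s.1.1 * Pm) *ᵥ (Qm *ᵥ v)
  rw [Matrix.mulVec_mulVec, Matrix.mulVec_mulVec]
  congr 1
  calc Qm * s.1.1 = Qm * s.1.1 * (Pm * Qm) := by rw [PQ, Matrix.mul_one]
    _ = _ := by simp only [Matrix.mul_assoc]

theorem crd_eq {v : Fin 6 → K4} : Pm *ᵥ crd v = v := by
  rw [crd, Matrix.mulVec_mulVec, PQ, Matrix.one_mulVec]

theorem gram : Pmᵀ * Pm.map cj = Jm := by decide +kernel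

theorem herm_crd (v w : Fin 6 → K4) : hermForm 6 K4 2 v w = crd v ⬝ᵥ (Jm *ᵥ (cj ∘ crd w)) := by
  conv_lhs => rw [← crd_eq (v := v), ← crd_eq (v := w)]
  have h3 : cj ∘ (Pm *ᵥ crd w) = Pm.map cj *ᵥ (cj ∘ crd w) :=
    funext fun i => RingHom.map_mulVec cj Pm _ i
  rw [herm_eq, h3, Matrix.dotProduct_mulVec, ← Matrix.mulVec_transpose, Matrix.mulVec_mulVec,
    ← gram, Matrix.dotProduct_mulVec, ← Matrix.mulVec_transpose]
  congr 2
  rw [Matrix.transpose_mul, Matrix.transpose_transpose]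

theorem Jm_mulVec (x : Fin 6 → K4) : Jm *ᵥ x = ![x 3, x 4, x 5, x 0, x 1, x 2] := by
  have h : Jm = permM ![3, 4, 5, 0, 1, 2] := by decide +kernel
  rw [h]
  funext i
  fin_cases i <;> simp [permM, Matrix.mulVec, dotProduct, Fin.sum_univ_six]

theorem herm_coords (v w : Fin 6 → K4) : hermForm 6 K4 2 v w =
    crd v 0 * cj (crd w 3) + crd v 1 * cj (crd w 4) + crd v 2 * cj (crd w 5) +
      crd v 3 * cj (crd w 0) + crd v 4 * cj (crd w 1) + crd v 5 * cj (crd w 2) := by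
  rw [herm_crd, Jm_mulVec, dotProduct]
  simp [Fin.sum_univ_six]

/-- membership of the standard plane -/
def InL (v : Fin 6 → K4) : Prop := crd v 3 = 0 ∧ crd v 4 = 0 ∧ crd v 5 = 0

theorem iso_cases : ∀ x y : K4, y ≠ 0 → x * cj y + y * cj x = 0 → x = 0 ∨ x = y := by decide +kernel

/-- the standard vectors -/
def ev (i : Fin 6) : Fin 6 → K4 := Pm *ᵥ Pi.single i 1

theorem crd_ev (i : Fin 6) : crd (ev i) = Pi.single i 1 := by
  rw [crd, ev, Matrix.mulVec_mulVec, QP, Matrix.one_mulVec]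

theorem InL_smul {v : Fin 6 → K4} (h : InL v) (k : K4) : InL (k • v) := by
  obtain ⟨h1, h2, h3⟩ := h
  simp [InL, crd, Matrix.mulVec_smul] at h1 h2 h3 ⊢
  simp [h1, h2, h3]

theorem move_list (S : List (Fin 6 → K4)) (h0 : ∀ a ∈ S, ∀ b ∈ S, hermForm 6 K4 2 a b = 0) :
    ∃ s : SU 6 K4 2, ∀ a ∈ S, InL (UnitaryFour.Transvection.act s a) := by
  by_cases hz : ∀ a ∈ S, a = 0
  · exact ⟨1, fun a ha => by rw [hz a ha, UnitaryFour.Transvection.act_one]; simp [InL, crd]⟩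
  push Not at hz
  obtain ⟨a0, ha0, hne⟩ := hz
  have hev : ∀ i : Fin 6, ev i ≠ 0 := fun i h => by
    have := crd_ev i
    rw [h] at this
    simpa [crd] using congrFun this i
  have hevh : ∀ i j : Fin 6, i.1 < 3 → j.1 < 3 → hermForm 6 K4 2 (ev i) (ev j) = 0 := by
    intro i j hi hj
    rw [herm_coords, crd_ev, crd_ev]
    fin_cases i <;> fin_cases j <;> simp at hi hj ⊢
  by_cases hm : ∀ b ∈ S, ∃ k : K4, b = k • a0
  · obtain ⟨A, hd, hA⟩ := exists_SU_isotropic card_K4 (by norm_num) hne (h0 a0 ha0 a0 ha0) (hev 0)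
      (hevh 0 0 (by decide) (by decide))
    refine ⟨⟨⟨A.1.1, hd⟩, fun x y => A.2 x y⟩, fun b hb => ?_⟩
    obtain ⟨k, rfl⟩ := hm b hb
    rw [UnitaryFour.Transvection.act_smul]
    refine InL_smul ?_ k
    rw [UnitaryFour.Transvection.act_def]
    show InL (A.1.1 *ᵥ a0)
    rw [hA]
    simp [InL, crd_ev]
  push Not at hm
  obtain ⟨b0, hb0, hb0'⟩ := hm
  have hli : LinearIndependent K4 ![a0, b0] := by
    rw [LinearIndependent.pair_iff' hne]
    exact fun k hk => hb0' k hk.symm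
  have hli' : LinearIndependent K4 ![ev 0, ev 1] := by
    rw [LinearIndependent.pair_iff' (hev 0)]
    intro k hk
    have := congrArg (fun v => crd v 1) hk
    simp only [crd, Matrix.mulVec_smul] at this
    rw [← crd, ← crd, crd_ev, crd_ev] at this
    simp at this
  obtain ⟨A, k, hk, hd, hA0, hA1⟩ := exists_SU_isotropic_pair card_K4 hli (h0 a0 ha0 a0 ha0)
    (h0 b0 hb0 b0 hb0) (h0 a0 ha0 b0 hb0) hli' (hevh 0 0 (by decide) (by decide))
    (hevh 1 1 (by decide) (by decide)) (hevh 0 1 (by decide) (by decide))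
  let s : SU 6 K4 2 := ⟨⟨A.1.1, hd⟩, fun x y => A.2 x y⟩
  have hort : ∀ v ∈ S, crd (UnitaryFour.Transvection.act s v) 3 = 0 ∧ crd (UnitaryFour.Transvection.act s v) 4 = 0 := by
    intro v hv
    have h1 : hermForm 6 K4 2 (UnitaryFour.Transvection.act s v) (k • ev 0) = 0 := by
      rw [← hA0]; exact (UnitaryFour.Transvection.act_herm s v a0).trans (h0 v hv a0 ha0)
    have h2 : hermForm 6 K4 2 (UnitaryFour.Transvection.act s v) (ev 1) = 0 := by
      rw [← hA1]; exact (UnitaryFour.Transvection.act_herm s v b0).trans (h0 v hv b0 hb0)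
    rw [herm_smul_right] at h1
    have h1' := (mul_eq_zero.mp h1).resolve_left (pow_ne_zero _ hk)
    rw [herm_coords, crd_ev] at h1' h2
    simp at h1' h2
    exact ⟨h1', h2⟩
  by_cases h5 : ∀ v ∈ S, crd (UnitaryFour.Transvection.act s v) 5 = 0
  · exact ⟨s, fun v hv => ⟨(hort v hv).1, (hort v hv).2, h5 v hv⟩⟩
  push Not at h5
  obtain ⟨w, hw, hw5⟩ := h5
  have hiso := h0 w hw w hw
  rw [← UnitaryFour.Transvection.act_herm s w w, herm_coords, (hort w hw).1, (hort w hw).2] at hiso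
  simp at hiso
  have hc := iso_cases _ _ hw5 hiso
  -- make the coordinate before the exchange vanish
  obtain ⟨p, hp⟩ : ∃ p : HP, (p = 0 ∨ p = (0, 0, 1, 0, 0, 0)) ∧
      (blk 1 (mat p) 0 1 *ᵥ crd (UnitaryFour.Transvection.act s w)) 2 = 0 := by
    rcases hc with h | h
    · exact ⟨0, Or.inl rfl, by rw [mat_zero, blk_one, Matrix.one_mulVec]; exact h⟩
    · refine ⟨(0, 0, 1, 0, 0, 0), Or.inr rfl, ?_⟩
      rw [show blk 1 (mat (0, 0, 1, 0, 0, 0)) 0 1 =
        !![1, 0, 0, 0, 0, 0; 0, 1, 0, 0, 0, 0; 0, 0, 1, 0, 0, 1; 0, 0, 0, 1, 0, 0; 0, 0, 0, 0, 1, 0;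
          0, 0, 0, 0, 0, 1] by decide +kernel]
      simp [Matrix.mulVec, dotProduct, Fin.sum_univ_six, h, add_self]
  have hup : ∀ x : Fin 6 → K4, ∀ i : Fin 6, i.1 ≠ 2 → (blk 1 (mat p) 0 1 *ᵥ x) i = x i := by
    intro x i hi
    rcases hp.1 with rfl | rfl
    · rw [mat_zero, blk_one, Matrix.one_mulVec]
    · rw [show blk 1 (mat (0, 0, 1, 0, 0, 0)) 0 1 =
        !![1, 0, 0, 0, 0, 0; 0, 1, 0, 0, 0, 0; 0, 0, 1, 0, 0, 1; 0, 0, 0, 1, 0, 0; 0, 0, 0, 0, 1, 0;
          0, 0, 0, 0, 0, 1] by decide +kernel]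
      fin_cases i <;> simp [Matrix.mulVec, dotProduct, Fin.sum_univ_six] at hi ⊢
  have hperm : ∀ (y : Fin 6 → K4) (i : Fin 6),
      (permM ![0, 1, 5, 3, 4, 2] *ᵥ y) i = y (![0, 1, 5, 3, 4, 2] i) := by
    intro y i
    fin_cases i <;> simp [permM, Matrix.mulVec, dotProduct, Fin.sum_univ_six]
  refine ⟨w2 * u p * s, fun v hv => ?_⟩
  have hco : ∀ x, crd (UnitaryFour.Transvection.act (w2 * u p * s) x) =
      permM ![0, 1, 5, 3, 4, 2] *ᵥ (blk 1 (mat p) 0 1 *ᵥ crd (UnitaryFour.Transvection.act s x)) := by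
    intro x
    rw [UnitaryFour.Transvection.act_mul, UnitaryFour.Transvection.act_mul, crd_act, crd_act, co_u, w2, co_mk]
  have hvw := h0 v hv w hw
  rw [← UnitaryFour.Transvection.act_herm (w2 * u p * s) v w, herm_coords, hco v, hco w] at hvw
  simp only [hperm, Matrix.cons_val, hp.2, hup _ 0 (by decide), hup _ 1 (by decide),
    hup _ 3 (by decide), hup _ 4 (by decide), hup _ 5 (by decide), (hort w hw).1, (hort w hw).2,
    (hort v hv).1, (hort v hv).2] at hvw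
  refine ⟨?_, ?_, ?_⟩
  · rw [hco, hperm]; simp [hup _ 3 (by decide), (hort v hv).1]
  · rw [hco, hperm]; simp [hup _ 4 (by decide), (hort v hv).2]
  · rw [hco, hperm]
    simp at hvw ⊢
    exact hvw.resolve_right hw5

theorem tv_mat : ∀ a b c : K4, Qm * rk1 2 1 (Pm *ᵥ ![a, b, c, 0, 0, 0]) (Pm *ᵥ ![a, b, c, 0, 0, 0]) * Pm =
    blk 1 (mat (toP (Matrix.vecMulVec ![a, b, c] (cj ∘ ![a, b, c])))) 0 1 := by
  decide +kernel

theorem tv_InL {v : Fin 6 → K4} (hv : hermForm 6 K4 2 v v = 0) (h : InL v) :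
    ∃ p, tv card_K4 v hv = u p := by
  obtain ⟨h1, h2, h3⟩ := h
  refine ⟨toP (Matrix.vecMulVec ![crd v 0, crd v 1, crd v 2] (cj ∘ ![crd v 0, crd v 1, crd v 2])),
    co_inj ?_⟩
  rw [co_u, ← tv_mat]
  have e : Pm *ᵥ ![crd v 0, crd v 1, crd v 2, 0, 0, 0] = v := by
    conv_rhs => rw [← crd_eq (v := v)]
    congr 1
    funext i
    fin_cases i <;> simp [h1, h2, h3]
  rw [e]
  rfl

/-- every involution is conjugate into the radical -/
theorem exists_conj_u {t : SU 6 K4 2} (ht : t * t = 1) :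
    ∃ (s : SU 6 K4 2) (p : HP), s * t * s⁻¹ = u p := by
  obtain ⟨L, -, horth, rfl⟩ := exists_decomp card_K4 t ht
  obtain ⟨s, hs⟩ := move_list (L.map fun a => a.1) (by
    intro a ha b hb
    obtain ⟨a', ha', rfl⟩ := List.mem_map.mp ha
    obtain ⟨b', hb', rfl⟩ := List.mem_map.mp hb
    exact horth a' ha' b' hb')
  refine ⟨s, ?_⟩
  clear horth ht
  induction L with
  | nil => exact ⟨0, by simp [u_zero]⟩
  | cons a L ih =>
    obtain ⟨p, hp⟩ := ih (fun v hv => hs v (by simp only [List.map_cons]; exact List.mem_cons_of_mem _ hv))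
    have hiso : hermForm 6 K4 2 (UnitaryFour.Transvection.act s a.1) (UnitaryFour.Transvection.act s a.1) = 0 := by
      rw [UnitaryFour.Transvection.act_herm]; exact a.2
    obtain ⟨p', hp'⟩ := tv_InL hiso (hs a.1 (by simp))
    refine ⟨p' + p, ?_⟩
    rw [List.map_cons, List.prod_cons, ← conj_mul, hp, ← tv_conj card_K4 s a.2 hiso, hp', u_add]

end Cfsg.Agent.Lib.U62J
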