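import Cfsg.Agent.Lib.U62J.Coords
import Cfsg.Agent.Lib.U62J.Facts
import Cfsg.Agent.Lib.U62J.Weyl
import Cfsg.Agent.Lib.UnitaryFour.Classes
import Cfsg.Agent.S0280

/-!
U62J/Image: radical, Levi part and Sylow subgroup in `PSU(6, 2)`.
-/

set_option autoImplicit false
set_option linter.unusedSectionVars false
set_option linter.style.haveILetI false

namespace Cfsg.Agent.Lib.U62J

open Cfsg.Agent.Lib.G24 (K4)
open Cfsg.Agent.Lib.UnitaryFour.Transvection (eq_one_of_comm_tv)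

abbrev Q6 := Cfsg.PSU 6 K4 2

/-- the projection -/
def ph : SU 6 K4 2 →* Q6 := QuotientGroup.mk' _

theorem ph_surjective : Function.Surjective ph := QuotientGroup.mk'_surjective _

theorem mem_ker_ph {x : SU 6 K4 2} (h : ph x = 1) : x ∈ Subgroup.center (SU 6 K4 2) :=
  (QuotientGroup.eq_one_iff x).mp h

theorem ker_ph : ph.ker ≤ Subgroup.center (SU 6 K4 2) := fun _ hx => mem_ker_ph hx

theorem one_of_central_invol {t : SU 6 K4 2} (ht : t * t = 1) (hc : t ∈ Subgroup.center (SU 6 K4 2)) :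
    t = 1 :=
  eq_one_of_comm_tv card_K4 (by norm_num) ht fun _ _ => (Subgroup.mem_center_iff.mp hc _).symm

/-- the radical in the quotient -/
def uQ (p : HP) : Q6 := ph (u p)

/-- the Levi part in the quotient -/
def lQ : SL3 →* Q6 := ph.comp l

theorem uQ_add (p p' : HP) : uQ (p + p') = uQ p * uQ p' := by rw [uQ, uQ, uQ, u_add, map_mul]

theorem uQ_zero : uQ 0 = 1 := by rw [uQ, u_zero, map_one]

theorem uQ_sq (p : HP) : uQ p * uQ p = 1 := by rw [← uQ_add, hp_add_self, uQ_zero]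

theorem uQ_inj {p p' : HP} (h : uQ p = uQ p') : p = p' := by
  have h1 : uQ (p + p') = 1 := by rw [uQ_add, h, uQ_sq]
  have h2 := one_of_central_invol (t := u (p + p')) (by rw [← u_add, hp_add_self, u_zero]) (mem_ker_ph h1)
  have h3 := u_inj (h2.trans u_zero.symm)
  calc p = p + (p' + p') := by rw [hp_add_self, add_zero]
    _ = p' := by rw [← add_assoc, h3, zero_add]

theorem lQ_uQ (g : SL3) (p : HP) : lQ g * uQ p = uQ (act g p) * lQ g := by
  show ph (l g) * ph (u p) = _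
  rw [← map_mul, l_u, map_mul]; rfl

theorem lQ_conj (g : SL3) (p : HP) : lQ g * uQ p * (lQ g)⁻¹ = uQ (act g p) := by
  rw [lQ_uQ, mul_inv_cancel_right]

theorem ulQ_mul (p p' : HP) (g g' : SL3) :
    uQ p * lQ g * (uQ p' * lQ g') = uQ (p + act g p') * lQ (g * g') := by
  show ph (u p) * ph (l g) * (ph (u p') * ph (l g')) = ph _ * ph _
  rw [← map_mul, ← map_mul, ← map_mul, ← map_mul, ul_mul]

theorem ul_inv (p : HP) (g : SL3) : (u p * l g)⁻¹ = u (act g⁻¹ p) * l g⁻¹ := by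
  refine inv_eq_of_mul_eq_one_right ?_
  rw [ul_mul, ← act_mul, mul_inv_cancel, act_one, hp_add_self, u_zero, map_one, one_mul]

theorem ulQ_inv (p : HP) (g : SL3) : (uQ p * lQ g)⁻¹ = uQ (act g⁻¹ p) * lQ g⁻¹ := by
  show (ph (u p) * ph (l g))⁻¹ = ph _ * ph _
  rw [← map_mul, ← map_inv, ul_inv, map_mul]

/-- parameters of the Sylow subgroup -/
abbrev TP := HP × K4 × K4 × K4

/-- the element with given parameters -/
def tel (x : TP) : SU 6 K4 2 := u x.1 * l (ut x.2.1 x.2.2.1 x.2.2.2)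

theorem tel_mul (x y : TP) : tel x * tel y = tel (x.1 + act (ut x.2.1 x.2.2.1 x.2.2.2) y.1,
    x.2.1 + y.2.1, x.2.2.1 + y.2.2.1, x.2.2.2 + y.2.2.2 + x.2.1 * y.2.2.1) := by
  rw [tel, tel, ul_mul, ut_mul]; rfl

theorem tel_inj {x y : TP} (h : tel x = tel y) : x = y := by
  obtain ⟨h1, h2⟩ := ul_inj h
  obtain ⟨h3, h4, h5⟩ := ut_inj h2
  exact Prod.ext h1 (Prod.ext h3 (Prod.ext h4 h5))

theorem tel_zero : tel 0 = 1 := by
  show u 0 * l (ut 0 0 0) = 1
  rw [u_zero, ut_zero, map_one, one_mul]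

theorem tel_pow_eight (x : TP) : ∀ y, tel x * tel x = y → (y * y) * (y * y) = 1 := by
  rintro y rfl
  obtain ⟨p, a, b, c⟩ := x
  simp only [tel_mul, add_self]
  rw [show ((0 : K4) + 0 * 0) = 0 by simp, ut_zero, act_one, hp_add_self]
  exact tel_zero

theorem tel_eq_one_of_ph {x : TP} (h : ph (tel x) = 1) : x = 0 := by
  have hc := mem_ker_ph h
  have h8 := tel_pow_eight x _ rfl
  have h4 := one_of_central_invol h8 (mul_mem (mul_mem hc hc) (mul_mem hc hc))
  have h2 := one_of_central_invol h4 (mul_mem hc hc)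
  exact tel_inj ((one_of_central_invol h2 hc).trans tel_zero.symm)

theorem exists_tel_inv (x : TP) : ∃ y : TP, (tel x)⁻¹ = tel y := by
  refine ⟨(act (ut x.2.1 x.2.2.1 x.2.2.2)⁻¹ x.1, x.2.1, x.2.2.1, x.2.2.2 + x.2.1 * x.2.2.1), ?_⟩
  have hi : (ut x.2.1 x.2.2.1 x.2.2.2)⁻¹ = ut x.2.1 x.2.2.1 (x.2.2.2 + x.2.1 * x.2.2.1) := by
    refine inv_eq_of_mul_eq_one_right ?_
    rw [ut_mul, add_self, add_self, ← add_assoc, add_self, zero_add, add_self, ut_zero]
  rw [tel, ul_inv, tel, hi]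

/-- the Sylow subgroup -/
def TQ : Subgroup Q6 where
  carrier := Set.range fun x : TP => ph (tel x)
  one_mem' := ⟨0, by show ph (tel 0) = 1; rw [tel_zero, map_one]⟩
  mul_mem' := by
    rintro _ _ ⟨x, rfl⟩ ⟨y, rfl⟩
    exact ⟨_, (congrArg ph (tel_mul x y)).symm.trans (map_mul ph _ _)⟩
  inv_mem' := by
    rintro _ ⟨x, rfl⟩
    obtain ⟨y, hy⟩ := exists_tel_inv x
    exact ⟨y, (congrArg ph hy).symm.trans (map_inv ph _)⟩

theorem ph_tel_inj {x y : TP} (h : ph (tel x) = ph (tel y)) : x = y := by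
  obtain ⟨y', hy⟩ := exists_tel_inv y
  have h1 : ph (tel x * (tel y)⁻¹) = 1 := by rw [map_mul, map_inv, h, mul_inv_cancel]
  have h2 : tel x * (tel y)⁻¹ = 1 := by
    rw [hy, tel_mul] at h1 ⊢
    rw [tel_eq_one_of_ph h1, tel_zero]
  exact tel_inj (mul_inv_eq_one.mp h2)

theorem card_HP : Fintype.card HP = 512 := by
  simp [HP, Fintype.card_prod, ZMod.card, K4.card_eq]

theorem card_TQ : Nat.card TQ = 2 ^ 15 := by
  show Nat.card ↑(Set.range fun x : TP => ph (tel x)) = _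
  rw [← Nat.card_congr (Equiv.ofInjective (fun x : TP => ph (tel x)) fun _ _ h => ph_tel_inj h),
    Nat.card_eq_fintype_card]
  simp [TP, HP, Fintype.card_prod, ZMod.card, K4.card_eq]

theorem card_Q6 : Nat.card Q6 = 2 ^ 15 * 280665 := by
  have h := Cfsg.Agent.S0280.result (F := K4) (q := 2) card_K4 6 (by norm_num)
  have hp : (∏ i ∈ Finset.range 6, (if Even i then 2 ^ (i + 1) + 1 else 2 ^ (i + 1) - 1 : ℕ)) =
      3 * 3 * 9 * 15 * 33 * 63 := by
    simp [Finset.prod_range_succ, Nat.even_iff]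
  rw [hp] at h
  norm_num at h
  show Nat.card (Cfsg.PSU 6 K4 2) = _
  omega

theorem uQ_mem_TQ (p : HP) : uQ p ∈ TQ :=
  ⟨(p, 0, 0, 0), by show ph (u p * l (ut 0 0 0)) = ph (u p); rw [ut_zero, map_one, mul_one]⟩

end Cfsg.Agent.Lib.U62J
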