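import Cfsg.Agent.Lib.U62J.Conj

/-!
U62J/One: over a form of rank one at most one lift is conjugate to `d`.
-/

set_option autoImplicit false
set_option linter.unusedSectionVars false
set_option linter.style.haveILetI false
set_option maxHeartbeats 2000000
set_option synthInstance.maxSize 4000

namespace Cfsg.Agent.Lib.U62J

open Cfsg.Agent.Lib.G24 (K4)

theorem cls_r1 : cls r1 = 1 := by decide +kernel

theorem r1_ne_zero : r1 ≠ 0 := by decide +kernel

theorem act_r1 (g : SL3) : act g r1 = outer ![g.1 0 0, g.1 1 0, g.1 2 0] := by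
  have hm : mat r1 = !![1, 0, 0; 0, 0, 0; 0, 0, 0] := by decide +kernel
  rw [outer, act, hm]
  congr 1
  ext i j
  fin_cases i <;> fin_cases j <;> simp [Matrix.vecMulVec, Matrix.mul_apply, Fin.sum_univ_three, ct]

theorem card_cand : Fintype.card ((K4 × K4 × K4) × Bool) ≤ 128 := by decide +kernel

variable {G : Type*} [Group G] [Finite G] {d : G}
variable {π : ↥(Subgroup.centralizer ({d} : Set G)) →* Q6}

theorem cnt_one (hcov : Cov π (dC d)) : cnt hcov r1 ≤ 1 := by
  have hd1 : d ≠ 1 := fun e => hcov.dne (Subtype.ext e)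
  set Ns := Subgroup.normalizer (AG π : Set G) ⊓ (Subgroup.centralizer ({d} : Set G)) with hNs
  let Ks : ↥(Subgroup.centralizer ({d} : Set G)) → Subgroup G := fun e => Ns ⊓ Subgroup.centralizer {(e : G)}
  have stab_iff : ∀ (e x : ↥(Subgroup.centralizer ({d} : Set G))), Stab π e x ↔
      (x : G) ∈ Subgroup.normalizer (AG π : Set G) ∧ (x : G) * e * (x : G)⁻¹ = e := by
    intro e x
    constructor
    · rintro ⟨h1, h2⟩
      refine ⟨mem_normalizer_of _ fun z hz => ?_, congrArg Subtype.val h2⟩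
      obtain ⟨a, ha, rfl⟩ := mem_AG.mp hz
      exact mem_AG.mpr ⟨_, h1 a ha, rfl⟩
    · rintro ⟨h1, h2⟩
      refine ⟨fun a ha => ?_, Subtype.ext h2⟩
      obtain ⟨b, hb, eb⟩ := exists_conj_image h1 ha
      exact (show x * a * x⁻¹ = b from Subtype.ext eb.symm) ▸ hb
  have claim : ∀ e ∈ A0 π, π e = uQ r1 → IsCj e → ∀ M : Subgroup ↥(Subgroup.centralizer ({d} : Set G)), (∀ m ∈ M, Stab π e m) →
      IsPGroup 2 M → (∀ x, Stab π e x → ∀ m ∈ M, x * m * x⁻¹ ∈ M) →
      ∀ a ∈ A0 π, ∀ m ∈ M, ∀ m' ∈ M, fc m' (fc m a) ≠ e := by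
    intro e he her hePc M hMS hMp hMn a ha w hw w' hw' hval
    have hr1 : r1 ≠ 0 := r1_ne_zero
    have hed : (e : G) ≠ d := fun h => hr1 (uQ_inj (by
      rw [← her, show e = dC d from Subtype.ext h, hcov.pid, uQ_zero]))
    obtain ⟨n, hn, hne⟩ := exists_normalizer_of_isConj hcov (mem_AG.mpr ⟨e, he, rfl⟩) hePc
    obtain ⟨y, hy, hye⟩ := exists_conj_image (inv_mem hn) hcov.d_mem
    have hme : n⁻¹ * e * n⁻¹⁻¹ = d := by rw [← hne]; group
    have hye' : (y : G) = n⁻¹ * d * n⁻¹⁻¹ := hye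
    have hyd : y ≠ dC d := fun h => hed (by
      have h2 : n⁻¹ * d * n⁻¹⁻¹ = d := by rw [← hye', h]; rfl
      exact (MulAut.conj n⁻¹).injective (show n⁻¹ * e * n⁻¹⁻¹ = n⁻¹ * d * n⁻¹⁻¹ by rw [hme, h2]))
    -- the orbit of `e` is short, that of `y` equally long
    let Kg : Subgroup G := Ns
    let O : ↥(Subgroup.centralizer ({d} : Set G)) → Set G := fun z => Set.range fun k : ↥Kg => (k : G) * z * (k : G)⁻¹
    have horb : ∀ z : ↥(Subgroup.centralizer ({d} : Set G)), (O z).ncard * Nat.card ↥(Ks z) = Nat.card ↥Kg := by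
      intro z
      letI : MulAction ↥Kg G := MulAction.compHom G
        ((MulAut.conj (G := G)).comp Kg.subtype)
      have hO : O z = MulAction.orbit ↥Kg (z : G) := rfl
      have hst : Nat.card ↥(MulAction.stabilizer ↥Kg (z : G)) = Nat.card ↥(Ks z) := by
        refine Nat.card_congr
          { toFun := fun k => ⟨(k.1 : G), k.1.2, Subgroup.mem_centralizer_singleton_iff.mpr
              (mul_inv_eq_iff_eq_mul.mp k.2)⟩
            invFun := fun k => ⟨⟨k.1, k.2.1⟩, mul_inv_eq_iff_eq_mul.mpr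
              (Subgroup.mem_centralizer_singleton_iff.mp k.2.2)⟩
            left_inv := fun k => rfl
            right_inv := fun k => rfl }
      rw [hO, ← MulAction.index_stabilizer, ← hst, mul_comm, Subgroup.card_mul_index]
    have hKs : Nat.card ↥(Ks e) ≤ Nat.card ↥(Ks y) := by
      refine Nat.card_le_card_of_injective (fun k : ↥(Ks e) => (⟨n⁻¹ * k.1 * n⁻¹⁻¹, ?_⟩ : ↥(Ks y))) ?_
      · obtain ⟨⟨k1, k2⟩, k3⟩ := k.2
        have k2' := Subgroup.mem_centralizer_singleton_iff.mp k2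
        have k3' : (k.1 : G) * e = e * k.1 := Subgroup.mem_centralizer_singleton_iff.mp k3
        refine ⟨⟨Subgroup.mul_mem _ (Subgroup.mul_mem _ (Subgroup.inv_mem _ hn) k1) (Subgroup.inv_mem _ (Subgroup.inv_mem _ hn)), Subgroup.mem_centralizer_singleton_iff.mpr ?_⟩,
          Subgroup.mem_centralizer_singleton_iff.mpr ?_⟩
        · calc n⁻¹ * k.1 * n⁻¹⁻¹ * d = n⁻¹ * k.1 * n⁻¹⁻¹ * (n⁻¹ * e * n⁻¹⁻¹) := by rw [hme]
            _ = n⁻¹ * (k.1 * e) * n⁻¹⁻¹ := by group
            _ = n⁻¹ * (e * k.1) * n⁻¹⁻¹ := by rw [k3']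
            _ = (n⁻¹ * e * n⁻¹⁻¹) * (n⁻¹ * k.1 * n⁻¹⁻¹) := by group
            _ = _ := by rw [hme]
        · calc n⁻¹ * k.1 * n⁻¹⁻¹ * y = n⁻¹ * (k.1 * d) * n⁻¹⁻¹ := by rw [hye']; group
            _ = n⁻¹ * (d * k.1) * n⁻¹⁻¹ := by rw [k2']
            _ = _ := by rw [hye']; group
      · intro k k' hkk
        exact Subtype.ext ((MulAut.conj n⁻¹).injective (congrArg Subtype.val hkk))
    have hle128 : (O e).ncard ≤ 128 := by
      let cand' : (K4 × K4 × K4) × Bool → G := fun x =>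
        if x.2 then ((sec hcov (outer ![x.1.1, x.1.2.1, x.1.2.2]) * dC d : ↥(Subgroup.centralizer ({d} : Set G))) : G)
        else (sec hcov (outer ![x.1.1, x.1.2.1, x.1.2.2]) : G)
      refine le_trans (Set.ncard_le_ncard (t := Set.range cand') ?_ (Set.toFinite _)) ?_
      · rintro _ ⟨k, rfl⟩
        obtain ⟨kn, kC⟩ := k.2
        set x : ↥(Subgroup.centralizer ({d} : Set G)) := ⟨k.1, kC⟩
        have hx : ∀ z ∈ A0 π, x * z * x⁻¹ ∈ A0 π := fun z hz => by
          obtain ⟨b, hb, eb⟩ := exists_conj_image kn hz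
          exact (show x * z * x⁻¹ = b from Subtype.ext eb.symm) ▸ hb
        obtain ⟨p0, g, hg⟩ := exists_rel hx hcov.surj
        have : π (x * e * x⁻¹) = uQ (act g r1) := by
          rw [map_mul, map_mul, map_inv, her, conj_of_rel hg]
        rw [act_r1] at this
        rcases hcov.eq_or (y := sec hcov (outer ![g.1 0 0, g.1 1 0, g.1 2 0])) (this.trans (sec_spec hcov _).symm) with h | h
        · exact ⟨((g.1 0 0, g.1 1 0, g.1 2 0), false), (congrArg Subtype.val h).symm⟩
        · exact ⟨((g.1 0 0, g.1 1 0, g.1 2 0), true), (congrArg Subtype.val h).symm⟩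
      · rw [← Nat.card_coe_set_eq]
        refine (Finite.card_range_le cand').trans ?_
        rw [Nat.card_eq_fintype_card]
        exact card_cand
    obtain ⟨py, hpy⟩ := mem_A0.mp hy
    have hpy0 : py ≠ 0 := fun h0 => by
      rw [h0, uQ_zero] at hpy
      rcases (hcov.ker_iff y).mp hpy.symm with h | h
      · have h2 : n⁻¹ * d * n⁻¹⁻¹ = 1 := by rw [← hye', h]; rfl
        exact hd1 (conj_eq_one_iff.mp h2)
      · exact hyd h
    set Reach : HP → Prop := fun p => ∃ k : ↥(Subgroup.centralizer ({d} : Set G)), (∀ z ∈ A0 π, k * z * k⁻¹ ∈ A0 π) ∧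
      π (k * y * k⁻¹) = uQ p with hReach
    have hreach_act : ∀ g p, Reach p → Reach (act g p) := by
      rintro g p ⟨k, hk, hkp⟩
      obtain ⟨c, hc⟩ := hcov.surj (lQ g)
      have hc' : π c = uQ 0 * lQ g := by rw [hc, uQ_zero, one_mul]
      refine ⟨c * k, fun z hz => ?_, ?_⟩
      · rw [conj_conj]
        obtain ⟨p', hp'⟩ := mem_A0.mp (hk z hz)
        exact mem_A0.mpr ⟨act g p', by rw [map_mul, map_mul, map_inv, ← hp', conj_of_rel hc']⟩
      · rw [conj_conj, map_mul, map_mul, map_inv, hkp, conj_of_rel hc']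
    have hreach_inv : ∀ g p, Reach (act g p) = Reach p := fun g p => propext ⟨fun h => by
      have := hreach_act g⁻¹ _ h
      rwa [← act_mul, inv_mul_cancel, act_one] at this, hreach_act g p⟩
    have hpyR : Reach py := ⟨1, fun z hz => by simpa using hz, by simpa using hpy.symm⟩
    have hall : ∀ p, p ≠ 0 → cls p = cls py → Reach p := fun p hp hc => by
      rw [eq_rep Reach hreach_inv hp, hc, ← eq_rep Reach hreach_inv hpy0]; exact hpyR
    have hclsy : cls py = 1 := by
      by_contra hne1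
      have h210 : 210 ≤ (Finset.univ.filter fun p => cls p = cls py).card := by
        rcases cls_range hpy0 with h | h | h
        · exact absurd h hne1
        · rw [h, card_cls.2.1]
        · rw [h, card_cls.2.2]; norm_num
      have hge : (Finset.univ.filter fun p => cls p = cls py).card ≤ (O y).ncard := by
        have hex : ∀ p ∈ (Finset.univ.filter fun p => cls p = cls py), ∃ z ∈ O y,
            ∃ zc : ↥(Subgroup.centralizer ({d} : Set G)), (zc : G) = z ∧ π zc = uQ p := by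
          intro p hp
          simp only [Finset.mem_filter, Finset.mem_univ, true_and] at hp
          obtain ⟨k, hk, hkp⟩ := hall p (fun h => by
            rw [h, cls_zero] at hp
            rcases cls_range hpy0 with h' | h' | h' <;> omega) hp
          refine ⟨(k : G) * y * (k : G)⁻¹, ⟨⟨k, mem_normalizer_of _ fun z hz => ?_, k.2⟩, rfl⟩, k * y * k⁻¹, rfl, hkp⟩
          obtain ⟨b, hb, rfl⟩ := mem_AG.mp hz
          exact mem_AG.mpr ⟨_, hk b hb, rfl⟩
        choose! F hF1 zc hzc1 hzc2 using hex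
        rw [← Set.ncard_coe_finset]
        refine Set.ncard_le_ncard_of_injOn F (fun p hp => hF1 p hp) ?_ (Set.toFinite _)
        intro p hp q hq e'
        refine uQ_inj ?_
        rw [← hzc2 p hp, ← hzc2 q hq, show zc p = zc q from Subtype.ext (by rw [hzc1 p hp, hzc1 q hq, e'])]
      have h1 := horb e
      have h2 := horb y
      have hpos : 0 < Nat.card ↥(Ks e) := Nat.card_pos
      have h3 : (O y).ncard * Nat.card ↥(Ks e) ≤ (O e).ncard * Nat.card ↥(Ks e) := by
        rw [h1, ← h2]; exact Nat.mul_le_mul_left _ hKs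
      have := Nat.le_of_mul_le_mul_right h3 hpos
      omega
    -- move the partner to the standard form
    obtain ⟨k, hkA, hky⟩ := hall r1 hr1 (by rw [hclsy, cls_r1])
    set y' := k * y * k⁻¹ with hy'
    set m : G := (k : G) * n⁻¹ with hm
    have hkd : (k : G) * d * (k : G)⁻¹ = d := by rw [Subgroup.mem_centralizer_singleton_iff.mp k.2, mul_inv_cancel_right]
    have hmn : m ∈ Subgroup.normalizer (AG π : Set G) := mul_mem (mem_normalizer_of _ fun z hz => by
      obtain ⟨b, hb, rfl⟩ := mem_AG.mp hz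
      exact mem_AG.mpr ⟨_, hkA b hb, rfl⟩) (inv_mem hn)
    have hme' : m * e * m⁻¹ = d := by rw [hm, conj_conj, hme, hkd]
    have hmd : m * d * m⁻¹ = (y' : G) := by
      rw [hm, conj_conj, ← hye']; rfl
    have hy'A : y' ∈ A0 π := ⟨r1, hky.symm⟩
    obtain ⟨v, hv, -, hvall⟩ := pair_main hcov hy'A hky
    -- the transported subgroup
    let M' : Subgroup ↥(Subgroup.centralizer ({d} : Set G)) := ((M.map (Subgroup.centralizer ({d} : Set G)).subtype).map (MulAut.conj m).toMonoidHom).subgroupOf (Subgroup.centralizer ({d} : Set G))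
    have hM'1 : ∀ z : ↥(Subgroup.centralizer ({d} : Set G)), z ∈ M' ↔ ∃ b ∈ M, m * (b : G) * m⁻¹ = (z : G) := fun z => by
      simp only [M', Subgroup.mem_subgroupOf, Subgroup.mem_map]
      constructor
      · rintro ⟨_, ⟨b, hb, rfl⟩, e'⟩; exact ⟨b, hb, e'⟩
      · rintro ⟨b, hb, e'⟩; exact ⟨_, ⟨b, hb, rfl⟩, e'⟩
    have hcomm_d : ∀ b : ↥(Subgroup.centralizer ({d} : Set G)), (b : G) * e * (b : G)⁻¹ = e → m * (b : G) * m⁻¹ ∈ (Subgroup.centralizer ({d} : Set G)) := fun b hb => by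
      rw [Subgroup.mem_centralizer_singleton_iff]
      calc m * (b : G) * m⁻¹ * d = m * b * m⁻¹ * (m * e * m⁻¹) := by rw [hme']
        _ = m * ((b : G) * e * (b : G)⁻¹) * b * m⁻¹ := by group
        _ = (m * e * m⁻¹) * (m * b * m⁻¹) := by rw [hb]; group
        _ = _ := by rw [hme']
    have hvals := hvall M' (fun z hz => by
        obtain ⟨b, hb, e'⟩ := (hM'1 z).mp hz
        obtain ⟨hbn, hbe⟩ := (stab_iff e b).mp (hMS b hb)
        refine (stab_iff y' z).mpr ⟨e' ▸ mul_mem (mul_mem hmn hbn) (inv_mem hmn), ?_⟩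
        rw [← e', ← hmd]
        calc m * b * m⁻¹ * (m * d * m⁻¹) * (m * b * m⁻¹)⁻¹ = m * ((b : G) * d * (b : G)⁻¹) * m⁻¹ := by group
          _ = _ := by rw [Subgroup.mem_centralizer_singleton_iff.mp b.2, mul_inv_cancel_right])
      (by
        have h1 : IsPGroup 2 ↥((M.map (Subgroup.centralizer ({d} : Set G)).subtype).map (MulAut.conj m).toMonoidHom) :=
          (hMp.map _).map _
        exact h1.comap_of_injective (Subgroup.centralizer ({d} : Set G)).subtype Subtype.val_injective)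
      (fun z hz w2 hw2 => by
        obtain ⟨b, hb, e'⟩ := (hM'1 w2).mp hw2
        obtain ⟨hzn, hzy⟩ := (stab_iff y' z).mp hz
        have hzC : m⁻¹ * (z : G) * m ∈ (Subgroup.centralizer ({d} : Set G)) := by
          rw [Subgroup.mem_centralizer_singleton_iff]
          calc m⁻¹ * (z : G) * m * d = m⁻¹ * (z : G) * (m * d * m⁻¹) * m := by group
            _ = m⁻¹ * ((z : G) * y' * (z : G)⁻¹) * z * m := by rw [hmd]; group
            _ = m⁻¹ * (m * d * m⁻¹) * z * m := by rw [hzy, hmd]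
            _ = _ := by group
        have hs : Stab π e ⟨_, hzC⟩ := (stab_iff e _).mpr
          ⟨mul_mem (mul_mem (inv_mem hmn) hzn) hmn, by
            have hzd : (z : G) * d * (z : G)⁻¹ = d := by rw [Subgroup.mem_centralizer_singleton_iff.mp z.2, mul_inv_cancel_right]
            show m⁻¹ * (z : G) * m * e * (m⁻¹ * (z : G) * m)⁻¹ = e
            calc m⁻¹ * (z : G) * m * e * (m⁻¹ * (z : G) * m)⁻¹
                = m⁻¹ * ((z : G) * (m * e * m⁻¹) * (z : G)⁻¹) * m := by group
              _ = m⁻¹ * (m * e * m⁻¹) * m := by rw [hme', hzd]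
              _ = _ := by group⟩
        refine (hM'1 _).mpr ⟨_, hMn _ hs b hb, ?_⟩
        show m * (m⁻¹ * (z : G) * m * b * (m⁻¹ * (z : G) * m)⁻¹) * m⁻¹ = z * w2 * (z : G)⁻¹
        rw [← e']
        group)
    obtain ⟨a', ha', ea⟩ := exists_conj_image hmn ha
    obtain ⟨hwn, hwe⟩ := (stab_iff e w).mp (hMS w hw)
    obtain ⟨hwn', hwe'⟩ := (stab_iff e w').mp (hMS w' hw')
    have := hvals a' ha' ⟨_, hcomm_d w hwe⟩ ((hM'1 _).mpr ⟨w, hw, rfl⟩) ⟨_, hcomm_d w' hwe'⟩
      ((hM'1 _).mpr ⟨w', hw', rfl⟩)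
    have hd' : fc (⟨_, hcomm_d w' hwe'⟩ : ↥(Subgroup.centralizer ({d} : Set G))) (fc ⟨_, hcomm_d w hwe⟩ a') = dC d := Subtype.ext (by
      show m * w' * m⁻¹ * (m * w * m⁻¹ * a' * (m * w * m⁻¹)⁻¹ * a') * (m * w' * m⁻¹)⁻¹ *
        (m * w * m⁻¹ * a' * (m * w * m⁻¹)⁻¹ * a') = d
      have hv' : (w' : G) * ((w : G) * a * (w : G)⁻¹ * a) * (w' : G)⁻¹ * ((w : G) * a * (w : G)⁻¹ * a) = e :=
        congrArg Subtype.val hval
      rw [ea]
      calc _ = m * ((w' : G) * ((w : G) * a * (w : G)⁻¹ * a) * (w' : G)⁻¹ * ((w : G) * a * (w : G)⁻¹ * a)) * m⁻¹ := by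
            group
        _ = d := by rw [hv', hme'])
    rw [hd'] at this
    rcases this with h | h
    · exact hcov.dne h
    · have hπv : π v = uQ r1 := by
        rcases hv with rfl | rfl
        · exact hky
        · rw [map_mul, hky, hcov.pid, mul_one]
      rw [← h, hcov.pid] at hπv
      exact hr1 (uQ_inj (hπv.symm.trans uQ_zero.symm))
  by_contra hN2
  obtain ⟨u, hu, ⟨M, hMS, hMp, hMn, a, ha, w, hw, w', hw', hval⟩, -⟩ :=
    pair_main hcov (sec_mem hcov r1) (sec_spec hcov r1)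
  have hboth : IsCj (sec hcov r1) ∧ IsCj (sec hcov r1 * dC d) := by
    have h1 := ind_le (sec hcov r1)
    have h2 := ind_le (sec hcov r1 * dC d)
    change ¬ ind (sec hcov r1) + ind (sec hcov r1 * dC d) ≤ 1 at hN2
    exact ⟨ind_eq_one (by omega), ind_eq_one (by omega)⟩
  rcases hu with rfl | rfl
  · exact claim _ (sec_mem hcov r1) (sec_spec hcov r1) hboth.1 M hMS hMp hMn a ha w hw w' hw' hval
  · have hfix : ∀ x, Stab π (sec hcov r1 * dC d) x ↔ Stab π (sec hcov r1) x := fun x => by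
      simp only [Stab]
      rw [← conj_mul, conj_d hcov]
      simp
    exact claim _ (mul_mem (sec_mem hcov r1) hcov.d_mem) (sec_d_spec hcov r1) hboth.2 M
      (fun m hm => (hfix m).mpr (hMS m hm)) hMp
      (fun x hx => hMn x ((hfix x).mp hx)) a ha w hw w' hw' hval

end Cfsg.Agent.Lib.U62J
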