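import Cfsg.Agent.Lib.U62J.Cover
import Cfsg.Agent.Lib.U62J.PairFacts

/-!
U62J/Pair: for a lift `e` of a form of rank one, double commutators of the radical with normal
2-subgroups of the stabiliser of `e` single out one of the two lifts.
-/

set_option autoImplicit false
set_option linter.unusedSectionVars false
set_option linter.style.haveILetI false

namespace Cfsg.Agent.Lib.U62J

open Cfsg.Agent.Lib.G24 (K4)

variable {C : Type*} [Group C] [Finite C] {π : C →* Q6} {d : C}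

theorem zmod_two_add : ∀ s t : ZMod 2, s + t = 0 ↔ s = t := by decide

theorem k4_add : ∀ s t : K4, s + t = 0 ↔ s = t := by decide +kernel

/-- commutator with an involution -/
def fc (x a : C) : C := x * a * x⁻¹ * a

/-- the stabiliser of `e` in the normaliser of the radical -/
def Stab (π : C →* Q6) (e x : C) : Prop := (∀ a ∈ A0 π, x * a * x⁻¹ ∈ A0 π) ∧ x * e * x⁻¹ = e

theorem conj_conj (x y a : C) : (x * y) * a * (x * y)⁻¹ = x * (y * a * y⁻¹) * x⁻¹ := by group

theorem conj_of_rel {x : C} {p0 : HP} {g : SL3} (hx : π x = uQ p0 * lQ g) (p : HP) :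
    π x * uQ p * (π x)⁻¹ = uQ (act g p) := by
  rw [hx, conj_conj, lQ_conj, mul_inv_eq_iff_eq_mul, ← uQ_add, ← uQ_add, add_comm]

theorem exists_rel {x : C} (hx : ∀ a ∈ A0 π, x * a * x⁻¹ ∈ A0 π) (hπ : Function.Surjective π) :
    ∃ p0 g, π x = uQ p0 * lQ g := by
  obtain ⟨s, hs⟩ := ph_surjective (π x)
  have hn : ∀ p, ∃ p', s * u p = u p' * s := fun p => by
    obtain ⟨a, ha⟩ := hπ (uQ p)
    obtain ⟨p', hp'⟩ := mem_A0.mp (hx a ⟨p, ha.symm⟩)
    rw [map_mul, map_mul, map_inv, ha, ← hs] at hp'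
    refine ⟨p', ?_⟩
    set t := s * u p * s⁻¹ with ht
    have hph : ph t = ph (u p') := by rw [ht, map_mul, map_mul, map_inv]; exact hp'.symm
    have htt : t * t = 1 := by rw [ht, conj_mul, ← u_add, hp_add_self, u_zero, mul_one, mul_inv_cancel]
    have hyy : u p' * u p' = 1 := by rw [← u_add, hp_add_self, u_zero]
    set z := t * (u p')⁻¹ with hz
    have hzc : z ∈ Subgroup.center (SU 6 K4 2) := mem_ker_ph (by rw [hz, map_mul, map_inv, hph, mul_inv_cancel])
    have hzt : t = z * u p' := by rw [hz, inv_mul_cancel_right]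
    have hz2 : z * z = 1 := by
      have : (z * u p') * (z * u p') = z * z * (u p' * u p') := by
        calc (z * u p') * (z * u p') = z * (u p' * z) * u p' := by group
          _ = z * z * (u p' * u p') := by rw [Subgroup.mem_center_iff.mp hzc]; group
      rw [← hzt, htt, hyy, mul_one] at this
      exact this.symm
    rw [one_of_central_invol hz2 hzc, one_mul] at hzt
    rw [← hzt, ht, inv_mul_cancel_right]
  obtain ⟨p0, g, rfl⟩ := exists_ul hn
  exact ⟨p0, g, by rw [← hs, map_mul]; rfl⟩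

theorem lQ_eq_of_scalar {g g' : SL3} {μ : K4} (hμ : μ ≠ 0) (h : g.1 = μ • g'.1) : lQ g = lQ g' := by
  set w := g * g'⁻¹ with hw
  have hw1 : w.1 = μ • (1 : Matrix (Fin 3) (Fin 3) K4) := by
    rw [hw, Matrix.SpecialLinearGroup.coe_mul, h, Matrix.smul_mul, ← Matrix.SpecialLinearGroup.coe_mul,
      mul_inv_cancel, Matrix.SpecialLinearGroup.coe_one]
  have hwi : (w⁻¹).1 = μ⁻¹ • (1 : Matrix (Fin 3) (Fin 3) K4) := by
    have e : w.1 * (w⁻¹).1 = 1 := by
      rw [← Matrix.SpecialLinearGroup.coe_mul, mul_inv_cancel, Matrix.SpecialLinearGroup.coe_one]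
    rw [hw1, Matrix.smul_mul, Matrix.one_mul] at e
    rw [← e, smul_smul, inv_mul_cancel₀ hμ, one_smul]
  have hci : cj μ⁻¹ = μ := by
    have := scal_norm μ hμ
    rw [map_inv₀]
    exact inv_eq_of_mul_eq_one_left this
  have hco : co (l w) = μ • (1 : Matrix (Fin 6) (Fin 6) K4) := by
    rw [co_l, hw1, hwi]
    have : ct (μ⁻¹ • (1 : Matrix (Fin 3) (Fin 3) K4)) = μ • (1 : Matrix (Fin 3) (Fin 3) K4) := by
      ext i j
      by_cases hij : j = i
      · subst hij; simp [ct, hci]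
      · simp [ct, hij, Ne.symm hij]
    rw [this, ← blk_one]
    ext i j
    obtain ⟨i, rfl⟩ := (finSumFinEquiv (m := 3) (n := 3)).surjective i
    obtain ⟨j, rfl⟩ := (finSumFinEquiv (m := 3) (n := 3)).surjective j
    rcases i with i | i <;> rcases j with j | j <;> simp [blk, Matrix.one_apply]
  have hc : l w ∈ Subgroup.center (SU 6 K4 2) := Subgroup.mem_center_iff.mpr fun s => co_inj (by
    rw [co_mul, co_mul, hco]; simp)
  have : lQ w = 1 := (QuotientGroup.eq_one_iff _).mpr hc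
  rwa [hw, map_mul, map_inv, mul_inv_eq_one] at this

/-- the members which act as root elements -/
def IsQ (π : C →* Q6) (x : C) : Prop := ∃ p0 a c, π x = uQ p0 * lQ (ut a 0 c)

variable (h : Cov π d)
include h

theorem conj_d (x : C) : x * d * x⁻¹ = d := by rw [← h.comm, mul_inv_cancel_right]

/-- the action depends on the image only -/
theorem conj_eq_of_rel {x y : C} {px py : HP} {gx gy : SL3} (hx : π x = uQ px * lQ gx)
    (hy : π y = uQ py * lQ gy) (hg : lQ gx = lQ gy) {a : C} (ha : a ∈ A0 π) :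
    x * a * x⁻¹ = y * a * y⁻¹ := by
  obtain ⟨r, hr⟩ := h.surj (uQ (px + py))
  have hrm : r ∈ A0 π := ⟨_, hr.symm⟩
  have e : π x = π (r * y) := by
    rw [map_mul, hr, hy, hx, hg, ← mul_assoc, ← uQ_add, add_assoc, hp_add_self, add_zero]
  have hym : y * a * y⁻¹ ∈ A0 π := by
    obtain ⟨p, hp⟩ := mem_A0.mp ha
    exact mem_A0.mpr ⟨act gy p, by rw [map_mul, map_mul, map_inv, ← hp, conj_of_rel hy]⟩
  have key : r * y * a * (r * y)⁻¹ = y * a * y⁻¹ := by
    rw [conj_conj, h.A0_comm hrm hym, mul_inv_cancel_right]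
  rcases h.eq_or e with rfl | rfl
  · exact key
  · rw [conj_conj, show d * a * d⁻¹ = a by rw [h.comm, mul_inv_cancel_right]]
    exact key

theorem fc_add (x : C) {a b : C} (ha : a ∈ A0 π) (hb : b ∈ A0 π) (hxb : x * b * x⁻¹ ∈ A0 π) :
    fc x (a * b) = fc x a * fc x b := by
  calc fc x (a * b) = x * a * x⁻¹ * (x * b * x⁻¹) * (a * b) := by rw [fc, conj_mul]
    _ = x * a * x⁻¹ * ((x * b * x⁻¹) * a) * b := by group
    _ = x * a * x⁻¹ * (a * (x * b * x⁻¹)) * b := by rw [h.A0_comm hxb ha]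
    _ = _ := by simp only [fc]; group

theorem fix_d (x : C) : fc x d = 1 := by rw [fc, conj_d h, h.dd]

theorem fix_one (x : C) : fc x 1 = 1 := by rw [fc]; group

/-- the main computation -/
theorem pair_main {e : C} (he : e ∈ A0 π) (her : π e = uQ r1) :
    ∃ u : C, (u = e ∨ u = e * d) ∧
      (∃ M : Subgroup C, (∀ m ∈ M, Stab π e m) ∧ IsPGroup 2 M ∧
        (∀ x, Stab π e x → ∀ m ∈ M, x * m * x⁻¹ ∈ M) ∧
        ∃ a ∈ A0 π, ∃ m ∈ M, ∃ m' ∈ M, fc m' (fc m a) = u) ∧
      (∀ M : Subgroup C, (∀ m ∈ M, Stab π e m) → IsPGroup 2 M →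
        (∀ x, Stab π e x → ∀ m ∈ M, x * m * x⁻¹ ∈ M) →
        ∀ a ∈ A0 π, ∀ m ∈ M, ∀ m' ∈ M, fc m' (fc m a) = 1 ∨ fc m' (fc m a) = u) := by
  classical
  have rel0 : ∀ {x : C} {g : SL3}, π x = lQ g → π x = uQ 0 * lQ g := fun hx => by
    rw [hx, uQ_zero, one_mul]
  have stab_rel : ∀ {x : C} {p0 : HP} {g : SL3}, π x = uQ p0 * lQ g → ∀ a ∈ A0 π, x * a * x⁻¹ ∈ A0 π := by
    intro x p0 g hx a ha
    obtain ⟨p, hp⟩ := mem_A0.mp ha
    exact mem_A0.mpr ⟨act g p, by rw [map_mul, map_mul, map_inv, ← hp, conj_of_rel hx]⟩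
  -- conjugation moves `e` to one of the two lifts
  have move : ∀ {x : C} {g : SL3}, π x = lQ g → act g r1 = r1 → x * e * x⁻¹ = e ∨ x * e * x⁻¹ = e * d := by
    intro x g hx hg
    exact h.eq_or (by rw [map_mul, map_mul, map_inv, her, conj_of_rel (rel0 hx), hg])
  obtain ⟨cd, hcd⟩ := h.surj (lQ dia)
  have hcde : cd * e * cd⁻¹ = e := by
    rcases move hcd fix_dia with e1 | e1
    · exact e1
    exfalso
    have hedd : cd * (e * d) * cd⁻¹ = e := by
      rw [← conj_mul, e1, conj_d h, mul_assoc, h.dd, mul_one]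
    have e3 : (cd * cd * cd) * e * (cd * cd * cd)⁻¹ = e * d := by
      rw [conj_conj, conj_conj, e1, hedd, e1]
    have hc3 : π (cd * cd * cd) = 1 := by rw [map_mul, map_mul, hcd, ← map_mul, ← map_mul, dia_pow, map_one]
    rcases (h.ker_iff _).mp hc3 with e4 | e4
    · rw [e4, one_mul, inv_one, mul_one] at e3
      exact h.dne (mul_eq_left.mp e3.symm)
    · rw [e4, h.comm, mul_inv_cancel_right] at e3
      exact h.dne (mul_eq_left.mp e3.symm)
  have lift_fix : ∀ g g' : SL3, act g' r1 = r1 → g' * g' = 1 → dia * g' * (dia * dia) * g' = g →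
      ∃ x : C, π x = lQ g ∧ x * e * x⁻¹ = e := by
    intro g g' hg' hsq hg
    obtain ⟨y, hy⟩ := h.surj (lQ g')
    have hyi : π y⁻¹ = lQ g' := by
      rw [map_inv, hy, inv_eq_of_mul_eq_one_right]; rw [← map_mul, hsq, map_one]
    have hcdi : π cd⁻¹ = lQ (dia * dia) := by
      rw [map_inv, hcd, inv_eq_of_mul_eq_one_right]
      rw [← map_mul, ← mul_assoc, dia_pow, map_one]
    refine ⟨cd * y * cd⁻¹ * y⁻¹, by rw [map_mul, map_mul, map_mul, hcd, hy, hcdi, hyi, ← map_mul, ← map_mul, ← map_mul, hg], ?_⟩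
    have hcdi' : cd⁻¹ * e * cd⁻¹⁻¹ = e := by
      conv_lhs => rw [← hcde]
      group
    rw [conj_conj, conj_conj, conj_conj]
    rcases move hy hg' with e1 | e1
    · rcases move hyi hg' with e2 | e2
      · rw [e2, hcdi', e1, hcde]
      · exfalso
        have : y * (y⁻¹ * e * y⁻¹⁻¹) * y⁻¹ = e := by group
        rw [e2, ← conj_mul, e1, conj_d h] at this
        exact h.dne (mul_eq_left.mp this)
    · rcases move hyi hg' with e2 | e2
      · exfalso
        have : y * (y⁻¹ * e * y⁻¹⁻¹) * y⁻¹ = e := by group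
        rw [e2, e1] at this
        exact h.dne (mul_eq_left.mp this)
      · rw [e2, ← conj_mul (b := cd⁻¹), hcdi', conj_d h, ← conj_mul (b := y), e1, conj_d h,
          mul_assoc e d d, h.dd, mul_one, hcde]
  have hq' : ∀ a c : K4, ∃ x : C, π x = lQ (ut a 0 c) ∧ x * e * x⁻¹ = e := fun a c => by
    obtain ⟨a', c', hh⟩ := comm_q a c
    exact lift_fix _ (ut a' 0 c') (fix_ut _ _ _) (q_sq _ _) hh
  choose kq hkq hkqe using hq'
  have hl' : ∀ t : K4, ∃ x : C, π x = lQ (low t) ∧ x * e * x⁻¹ = e := fun t => by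
    obtain ⟨t', hh⟩ := comm_low t
    exact lift_fix _ (low t') (fix_low _) (low_sq _) hh
  choose kl hkl hkle using hl'
  have hm' : ∀ b : K4, ∃ x : C, π x = lQ (ut 0 b 0) ∧ x * e * x⁻¹ = e := fun b => by
    obtain ⟨b', hh⟩ := comm_mid b
    exact lift_fix _ (ut 0 b' 0) (fix_ut _ _ _) (mid_sq _) hh
  choose km hkm hkme using hm'
  set F : K4 → K4 → C → C := fun a c z => fc (kq a c) z with hF
  have hqA : ∀ a c, ∀ z ∈ A0 π, kq a c * z * (kq a c)⁻¹ ∈ A0 π := fun a c => stab_rel (rel0 (hkq a c))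
  have hFA : ∀ a c, ∀ z ∈ A0 π, F a c z ∈ A0 π := fun a c z hz => mul_mem (hqA a c z hz) hz
  have hFπ : ∀ a c (z : C) (p : HP), π z = uQ p → π (F a c z) = uQ (dAct (ut a 0 c) p) := by
    intro a c z p hz
    show π (kq a c * z * (kq a c)⁻¹ * z) = _
    rw [map_mul, map_mul, map_mul, map_inv, hz, conj_of_rel (rel0 (hkq a c)), ← uQ_add]; rfl
  have hFmul : ∀ a c, ∀ z ∈ A0 π, ∀ z' ∈ A0 π, F a c (z * z') = F a c z * F a c z' :=
    fun a c z hz z' hz' => fc_add h _ hz hz' (hqA a c z' hz')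
  -- the four elements fixed by everything
  set B4 : C → Prop := fun z => π z = 1 ∨ π z = uQ r1 with hB4
  have hB4fix : ∀ x : C, x * e * x⁻¹ = e → ∀ z, B4 z → x * z * x⁻¹ = z := by
    intro x hx z hz
    rcases hz with hz | hz
    · rcases (h.ker_iff z).mp hz with rfl | rfl
      · rw [mul_one, mul_inv_cancel]
      · exact conj_d h x
    · rcases h.eq_or (hz.trans her.symm) with rfl | rfl
      · exact hx
      · rw [← conj_mul, hx, conj_d h]
  have hB4F : ∀ a c z, B4 z → z ∈ A0 π → F a c z = 1 := fun a c z hz hzA => by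
    show kq a c * z * (kq a c)⁻¹ * z = 1
    rw [hB4fix _ (hkqe a c) z hz, h.A0_sq hzA]
  have hlow : ∀ a c z p, π z = uQ p → Low p → B4 (F a c z) := by
    intro a c z p hz hp
    obtain ⟨d1, b, c', x, y, z'⟩ := p
    obtain ⟨h1, h2, h3⟩ := hp
    simp only at h1 h2 h3
    subst h1 h2 h3
    rcases dAct_low a c d1 x y with e1 | e1
    · exact Or.inl (by rw [hFπ a c z _ hz, e1, uQ_zero])
    · exact Or.inr (by rw [hFπ a c z _ hz, e1])
  have hlowF : ∀ a c p, Low (dAct (ut a 0 c) p) := by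
    intro a c p
    obtain ⟨i, j, k, m, hl⟩ := decomp p
    have hadd : ∀ p p', Low (dAct (ut a 0 c) p) → Low (dAct (ut a 0 c) p') →
        Low (dAct (ut a 0 c) (p + p')) := fun p p' h1 h2 => by rw [dAct_add]; exact low_add h1 h2
    have hz0 : Low (dAct (ut a 0 c) 0) := by rw [dAct, act_zero, add_zero]; exact low_zero
    have hn : ∀ (n : Fin 2) (t : Fin 4), Low (dAct (ut a 0 c) (n.val • topB t)) := by
      intro n t
      fin_cases n
      · simpa using hz0
      · simpa using root_top t a c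
    have hl' : Low (dAct (ut a 0 c) (p + (i.val • topB 0 + j.val • topB 1 + k.val • topB 2 + m.val • topB 3))) :=
      low_add (low_act (fix_ut _ _ _) hl) hl
    have := hadd _ _ hl' (hadd _ _ (hadd _ _ (hadd _ _ (hn i 0) (hn j 1)) (hn k 2)) (hn m 3))
    rwa [add_assoc p, hp_add_self, add_zero] at this
  have hFFB4 : ∀ a c a' c', ∀ z ∈ A0 π, B4 (F a' c' (F a c z)) := by
    intro a c a' c' z hz
    obtain ⟨p, hp⟩ := mem_A0.mp hz
    exact hlow a' c' _ _ (hFπ a c z p hp.symm) (hlowF a c p)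
  have hconjq : ∀ a c a' c', ∀ z ∈ A0 π,
      kq a c * (kq a' c' * z * (kq a' c')⁻¹) * (kq a c)⁻¹ = kq (a + a') (c + c') * z * (kq (a + a') (c + c'))⁻¹ := by
    intro a c a' c' z hz
    rw [← conj_conj]
    exact conj_eq_of_rel h (rel0 (show π (kq a c * kq a' c') = lQ (ut (a + a') 0 (c + c')) by
      rw [map_mul, hkq, hkq, ← map_mul, q_mul])) (rel0 (hkq _ _)) rfl hz
  have hTT : ∀ a c a' c', ∀ z ∈ A0 π, kq a c * (kq a' c' * z * (kq a' c')⁻¹) * (kq a c)⁻¹ =
      kq a' c' * (kq a c * z * (kq a c)⁻¹) * (kq a' c')⁻¹ := fun a c a' c' z hz => by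
    rw [hconjq a c a' c' z hz, hconjq a' c' a c z hz, add_comm a, add_comm c]
  have hsym : ∀ a c a' c', ∀ z ∈ A0 π, F a' c' (F a c z) = F a c (F a' c' z) := by
    intro a c a' c' z hz
    show kq a' c' * (kq a c * z * (kq a c)⁻¹ * z) * (kq a' c')⁻¹ * (kq a c * z * (kq a c)⁻¹ * z) =
      kq a c * (kq a' c' * z * (kq a' c')⁻¹ * z) * (kq a c)⁻¹ * (kq a' c' * z * (kq a' c')⁻¹ * z)
    rw [← conj_mul, ← conj_mul (b := kq a c), hTT a c a' c' z hz]
    set P := kq a' c' * z * (kq a' c')⁻¹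
    set Q := kq a c * z * (kq a c)⁻¹
    set R := kq a' c' * Q * (kq a' c')⁻¹
    have hP := hqA a' c' z hz
    have hQ := hqA a c z hz
    calc R * P * (Q * z) = R * (P * Q) * z := by group
      _ = R * (Q * P) * z := by rw [h.A0_comm hP hQ]
      _ = R * Q * (P * z) := by group
  have hsplit : ∀ a c a' c', ∀ z ∈ A0 π,
      F (a + a') (c + c') z = F a c (F a' c' z) * F a' c' z * F a c z := by
    intro a c a' c' z hz
    show kq (a + a') (c + c') * z * (kq (a + a') (c + c'))⁻¹ * z = _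
    rw [← hconjq a c a' c' z hz]
    set P := kq a' c' * z * (kq a' c')⁻¹
    show _ = kq a c * (P * z) * (kq a c)⁻¹ * (P * z) * (P * z) * (kq a c * z * (kq a c)⁻¹ * z)
    have hPz : (P * z) * (P * z) = 1 := h.A0_sq (mul_mem (hqA a' c' z hz) hz)
    rw [mul_assoc (kq a c * (P * z) * (kq a c)⁻¹) (P * z) (P * z), hPz, mul_one,
      ← mul_assoc (kq a c * (P * z) * (kq a c)⁻¹) (kq a c * z * (kq a c)⁻¹) z, conj_mul,
      mul_assoc P z z, h.A0_sq hz, mul_one]
  set Ψ : C → K4 → K4 → K4 → K4 → C := fun z a c a' c' => F a' c' (F a c z) with hΨ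
  have hlin : ∀ z ∈ A0 π, ∀ a c a' c' a'' c'', Ψ z (a + a') (c + c') a'' c'' =
      Ψ z a c a'' c'' * Ψ z a' c' a'' c'' := by
    intro z hz a c a' c' a'' c''
    show F a'' c'' (F (a + a') (c + c') z) = _
    have m1 := hFA a' c' z hz
    have m2 := hFA a c z hz
    have m3 := hFA a c _ m1
    rw [hsplit a c a' c' z hz, hFmul _ _ _ (mul_mem m3 m1) _ m2, hFmul _ _ _ m3 _ m1,
      hB4F a'' c'' _ (hFFB4 a' c' a c z hz) m3, one_mul]
    exact h.A0_comm (hFA _ _ _ m1) (hFA _ _ _ m2)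
  have hΨsym : ∀ z ∈ A0 π, ∀ a c a' c', Ψ z a c a' c' = Ψ z a' c' a c := fun z hz a c a' c' =>
    hsym a c a' c' z hz
  have hΨmul : ∀ z ∈ A0 π, ∀ z' ∈ A0 π, ∀ a c a' c', Ψ (z * z') a c a' c' =
      Ψ z a c a' c' * Ψ z' a c a' c' := fun z hz z' hz' a c a' c' => by
    show F a' c' (F a c (z * z')) = _
    rw [hFmul a c z hz z' hz', hFmul a' c' _ (hFA a c z hz) _ (hFA a c z' hz')]
  have hequiv : ∀ (x : C) (g : SL3), π x = lQ g → x * e * x⁻¹ = e → ∀ a c a1 c1 : K4,
      g * ut a1 0 c1 = ut a 0 c * g → ∀ z ∈ A0 π, x * F a1 c1 z * x⁻¹ = F a c (x * z * x⁻¹) := by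
    intro x g hx hxe a c a1 c1 hg z hz
    show x * (kq a1 c1 * z * (kq a1 c1)⁻¹ * z) * x⁻¹ = kq a c * (x * z * x⁻¹) * (kq a c)⁻¹ * (x * z * x⁻¹)
    rw [← conj_mul]
    congr 1
    rw [← conj_conj, ← conj_conj]
    exact conj_eq_of_rel h (rel0 (show π (x * kq a1 c1) = lQ (ut a 0 c * g) by
      rw [map_mul, hx, hkq, ← map_mul, hg])) (rel0 (show π (kq a c * x) = lQ (ut a 0 c * g) by
      rw [map_mul, hx, hkq, map_mul])) rfl hz
  -- the distinguished lift
  obtain ⟨z2, hz2⟩ := h.surj (uQ p2)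
  have hz2A : z2 ∈ A0 π := ⟨p2, hz2.symm⟩
  set u := Ψ z2 1 0 K4.w 0 with hu
  have huπ : π u = uQ r1 := by
    show π (F K4.w 0 (F 1 0 z2)) = _
    rw [hFπ _ _ _ _ (hFπ 1 0 z2 p2 hz2), dAct_dAct]
  have hu' : u = e ∨ u = e * d := h.eq_or (huπ.trans her.symm)
  have hker0 : ∀ c a' c', Ψ z2 0 c a' c' = 1 := by
    intro c a' c'
    have h0 : π (F 0 c z2) = 1 := by rw [hFπ _ _ _ _ hz2, dAct_p2_ker, uQ_zero]
    exact hB4F a' c' _ (Or.inl h0) (hFA _ _ _ hz2A)
  have hcdep : ∀ a c a' c', Ψ z2 a c a' c' = Ψ z2 a 0 a' 0 := by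
    intro a c a' c'
    have e1 : ∀ a c a' c', Ψ z2 a c a' c' = Ψ z2 a 0 a' c' := fun a c a' c' => by
      have := hlin z2 hz2A a 0 0 c a' c'
      rwa [add_zero, zero_add, hker0, mul_one] at this
    rw [e1, hΨsym z2 hz2A, e1, hΨsym z2 hz2A]
  have hrot : ∀ a a', Ψ z2 (K4.v * a) 0 (K4.v * a') 0 = Ψ z2 a 0 a' 0 := by
    intro a a'
    have hg : ∀ a, dia * ut a 0 0 = ut (K4.v * a) 0 0 * dia := fun a => by
      have := conj_dia a 0
      rw [mul_zero] at this
      rw [← this, mul_assoc _ (dia * dia) dia, dia_pow, mul_one]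
    have hz' : cd * z2 * cd⁻¹ = z2 ∨ cd * z2 * cd⁻¹ = z2 * d := h.eq_or (by
      rw [map_mul, map_mul, map_inv, hz2, conj_of_rel (rel0 hcd), show act dia p2 = p2 by decide +kernel])
    have hzF : F (K4.v * a) 0 (cd * z2 * cd⁻¹) = F (K4.v * a) 0 z2 := by
      rcases hz' with e1 | e1 <;> rw [e1]
      rw [hFmul _ _ _ hz2A _ h.d_mem, show F (K4.v * a) 0 d = 1 from fix_d h _, mul_one]
    have h1 := hB4fix cd hcde _ (hFFB4 a 0 a' 0 z2 hz2A)
    rw [hequiv cd dia hcd hcde _ _ _ _ (hg a') _ (hFA _ _ _ hz2A),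
      hequiv cd dia hcd hcde _ _ _ _ (hg a) _ hz2A, hzF] at h1
    exact h1
  have hval2 : ∀ a c a' c', Ψ z2 a c a' c' = 1 ∨ Ψ z2 a c a' c' = u := by
    have hu2 : u * u = 1 := h.A0_sq (hFA _ _ _ (hFA _ _ _ hz2A))
    set B : K4 → K4 → C := fun a a' => Ψ z2 a 0 a' 0 with hB
    have bl : ∀ a b a', B (a + b) a' = B a a' * B b a' := fun a b a' => by
      have := hlin z2 hz2A a 0 b 0 a' 0
      rwa [add_zero] at this
    have bs : ∀ a a', B a a' = B a' a := fun a a' => hΨsym z2 hz2A a 0 a' 0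
    have b0 : ∀ a', B 0 a' = 1 := fun a' => hker0 0 a' 0
    have hw : K4.w = 1 + K4.v := by decide
    have hv1 : K4.v * 1 = K4.v := by decide
    have hvv : K4.v * K4.v = K4.w := by decide
    have hvw : K4.v * K4.w = 1 := by decide
    have bvv : B K4.v K4.v = B 1 1 := by
      have := hrot 1 1; rwa [hv1] at this
    have bww : B K4.w K4.w = B 1 1 := by
      have := hrot K4.v K4.v; rw [hvv] at this; exact this.trans bvv
    have hsqv : B 1 K4.v * B 1 K4.v = 1 := h.A0_sq (hFA _ _ _ (hFA _ _ _ hz2A))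
    have h11sq : B 1 1 * B 1 1 = 1 := h.A0_sq (hFA _ _ _ (hFA _ _ _ hz2A))
    have b11 : B 1 1 = 1 := by
      have e1 : B K4.w K4.w = B 1 1 * B 1 K4.v * (B 1 K4.v * B K4.v K4.v) := by
        rw [hw, bl, bs 1 (1 + K4.v), bs K4.v (1 + K4.v), bl, bl, bs K4.v 1]
      rw [bww, bvv, mul_assoc, ← mul_assoc (B 1 K4.v) (B 1 K4.v), hsqv, one_mul, h11sq] at e1
      exact e1
    have b1w : B 1 K4.w = u := rfl
    have bvw : B K4.v K4.w = u := by
      have := hrot K4.w 1
      rw [hvw, hv1] at this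
      -- (1, v) has the value of (w, 1)
      have h2 : B 1 K4.v = u := this.trans (by rw [← b1w]; exact bs _ _)
      have := hrot 1 K4.v
      rw [hv1, hvv] at this
      exact this.trans h2
    have b1v : B 1 K4.v = u := by
      have := hrot K4.w 1
      rw [hvw, hv1] at this
      exact this.trans (by rw [← b1w]; exact bs _ _)
    intro a c a' c'
    rw [hcdep]
    show B a a' = 1 ∨ B a a' = u
    cases a <;> cases a' <;>
      first
        | exact Or.inl (b0 _)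
        | exact Or.inl ((bs _ _).trans (b0 _))
        | exact Or.inl b11
        | exact Or.inl (bvv.trans b11)
        | exact Or.inl (bww.trans b11)
        | exact Or.inr b1w
        | exact Or.inr b1v
        | exact Or.inr bvw
        | exact Or.inr ((bs _ _).trans b1w)
        | exact Or.inr ((bs _ _).trans b1v)
        | exact Or.inr ((bs _ _).trans bvw)
  -- the value set of a general element
  set Img : C → Prop := fun z => z ∈ A0 π ∧ ∀ a c a' c', Ψ z a c a' c' = 1 ∨ Ψ z a c a' c' = u with hImg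
  have imul : ∀ z z', Img z → Img z' → Img (z * z') := by
    rintro z z' ⟨hz, hv⟩ ⟨hz', hv'⟩
    refine ⟨mul_mem hz hz', fun a c a' c' => ?_⟩
    rw [hΨmul z hz z' hz']
    have hu2 : u * u = 1 := h.A0_sq (hFA _ _ _ (hFA _ _ _ hz2A))
    rcases hv a c a' c' with e1 | e1 <;> rcases hv' a c a' c' with e2 | e2 <;> simp [e1, e2, hu2]
  have ilow : ∀ z p, π z = uQ p → Low p → Img z := fun z p hz hp => ⟨⟨p, hz.symm⟩, fun a c a' c' =>
    Or.inl (hB4F a' c' _ (hlow a c z p hz hp) (hFA _ _ _ ⟨p, hz.symm⟩))⟩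
  have iconj : ∀ (x : C) (g : SL3), π x = lQ g → x * e * x⁻¹ = e → g * g = 1 →
      (∀ a c, ∃ a1 c1, g * ut a 0 c * g = ut a1 0 c1) → ∀ z, Img z → Img (x * z * x⁻¹) := by
    rintro x g hx hxe hg2 hgq z ⟨hz, hv⟩
    refine ⟨stab_rel (rel0 hx) z hz, fun a c a' c' => ?_⟩
    obtain ⟨a1, c1, e1⟩ := hgq a c
    obtain ⟨a2, c2, e2⟩ := hgq a' c'
    have r1' : g * ut a1 0 c1 = ut a 0 c * g := by rw [← e1, ← mul_assoc, ← mul_assoc, hg2, one_mul]
    have r2' : g * ut a2 0 c2 = ut a' 0 c' * g := by rw [← e2, ← mul_assoc, ← mul_assoc, hg2, one_mul]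
    show F a' c' (F a c (x * z * x⁻¹)) = 1 ∨ F a' c' (F a c (x * z * x⁻¹)) = u
    rw [← hequiv x g hx hxe a c a1 c1 r1' z hz, ← hequiv x g hx hxe a' c' a2 c2 r2' _ (hFA _ _ _ hz),
      hB4fix x hxe _ (hFFB4 a1 c1 a2 c2 z hz)]
    exact hv a1 c1 a2 c2
  have ieq : ∀ z z', Img z → π z' = π z → Img z' := by
    intro z z' hz hzz
    rcases h.eq_or hzz with rfl | rfl
    · exact hz
    · exact imul _ _ hz (ilow d 0 (by rw [h.pid, uQ_zero]) low_zero)
  have iz2 : Img z2 := ⟨hz2A, hval2⟩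
  have hlowq : ∀ t a c, ∃ a1 c1, low t * ut a 0 c * low t = ut a1 0 c1 := fun t a c => ⟨_, _, conj_low t a c⟩
  have hmidq : ∀ b a c, ∃ a1 c1, ut 0 b 0 * ut a 0 c * ut 0 b 0 = ut a1 0 c1 := fun b a c =>
    ⟨_, _, conj_mid b a c⟩
  have iTop : ∀ i : Fin 4, ∀ z, π z = uQ (topB i) → Img z := by
    intro i z hz
    have e1 : ∀ t, π (kl t * z2 * (kl t)⁻¹) = uQ (act (low t) p2) := fun t => by
      rw [map_mul, map_mul, map_inv, hz2, conj_of_rel (rel0 (hkl t))]
    have i1 := fun t => iconj (kl t) _ (hkl t) (hkle t) (low_sq t) (hlowq t) z2 iz2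
    fin_cases i
    · exact ieq _ _ iz2 (hz.trans hz2.symm)
    · refine ieq _ _ (iconj (km 1) _ (hkm 1) (hkme 1) (mid_sq 1) (hmidq 1) _ (i1 1)) (hz.trans ?_)
      rw [map_mul, map_mul, map_inv, e1, conj_of_rel (rel0 (hkm 1))]; rfl
    · exact ieq _ _ (i1 1) (hz.trans (e1 1).symm)
    · exact ieq _ _ (i1 K4.w) (hz.trans (e1 K4.w).symm)
  have iall : ∀ z ∈ A0 π, Img z := by
    intro z hz
    obtain ⟨p, hp⟩ := mem_A0.mp hz
    obtain ⟨i, j, k, m, hl⟩ := decomp p
    obtain ⟨y, hy⟩ := h.surj (uQ (p + (i.val • topB 0 + j.val • topB 1 + k.val • topB 2 + m.val • topB 3)))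
    have hn : ∀ (n : Fin 2) (t : Fin 4), ∃ w, π w = uQ (n.val • topB t) ∧ Img w := by
      intro n t
      obtain ⟨w, hw⟩ := h.surj (uQ (n.val • topB t))
      refine ⟨w, hw, ?_⟩
      fin_cases n
      · exact ilow w 0 (by simpa using hw) low_zero
      · exact iTop t w (by simpa using hw)
    obtain ⟨w0, a0, b0⟩ := hn i 0
    obtain ⟨w1, a1, b1⟩ := hn j 1
    obtain ⟨w2, a2, b2⟩ := hn k 2
    obtain ⟨w3, a3, b3⟩ := hn m 3
    refine ieq (y * (w0 * w1 * w2 * w3)) z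
      (imul _ _ (ilow y _ hy hl) (imul _ _ (imul _ _ (imul _ _ b0 b1) b2) b3)) ?_
    simp only [map_mul, hy, a0, a1, a2, a3]
    rw [← uQ_add, ← uQ_add, ← uQ_add, ← uQ_add, add_assoc p, hp_add_self, add_zero, hp]
  have hQval : ∀ {m m' : C}, IsQ π m → IsQ π m' → ∀ z ∈ A0 π, fc m' (fc m z) = 1 ∨ fc m' (fc m z) = u := by
    rintro m m' ⟨p, a, c, hm⟩ ⟨p', a', c', hm'⟩ z hz
    have e1 : fc m z = F a c z := by
      show m * z * m⁻¹ * z = kq a c * z * (kq a c)⁻¹ * z
      rw [conj_eq_of_rel h hm (rel0 (hkq a c)) rfl hz]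
    have e2 : fc m' (F a c z) = F a' c' (F a c z) := by
      show m' * _ * m'⁻¹ * _ = _
      rw [conj_eq_of_rel h hm' (rel0 (hkq a' c')) rfl (hFA a c z hz)]; rfl
    rw [e1, e2]
    exact (iall z hz).2 a c a' c'
  have hrel : ∀ {x : C}, Stab π e x → ∃ p0 g, π x = uQ p0 * lQ g ∧ act g r1 = r1 := by
    intro x hx
    obtain ⟨p0, g, hg⟩ := exists_rel hx.1 h.surj
    refine ⟨p0, g, hg, uQ_inj ?_⟩
    rw [← conj_of_rel hg r1, ← her, ← map_inv, ← map_mul, ← map_mul, hx.2]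
  have hisq : ∀ {x : C} {p0 : HP} {g : SL3}, π x = uQ p0 * lQ g → act g r1 = r1 →
      (∀ i, Low (dAct g (topB i))) → IsQ π x := by
    intro x p0 g hx hg htop
    obtain ⟨μ, a, c, hμ, hgm⟩ := exists_root_of_fix_top hg htop
    exact ⟨p0, a, c, by rw [hx, lQ_eq_of_scalar hμ hgm]⟩
  refine ⟨u, hu', ?_, ?_⟩
  · -- the members acting as root elements form a suitable subgroup
    have hqmul : ∀ {x y}, IsQ π x → IsQ π y → IsQ π (x * y) := by
      rintro x y ⟨p, a, c, hx⟩ ⟨p', a', c', hy⟩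
      exact ⟨_, a + a', c + c', by rw [map_mul, hx, hy, ulQ_mul, q_mul]⟩
    have hqinv : ∀ {x}, IsQ π x → IsQ π x⁻¹ := by
      rintro x ⟨p, a, c, hx⟩
      exact ⟨_, a, c, by rw [map_inv, hx, ulQ_inv, inv_eq_of_mul_eq_one_right (q_sq a c)]⟩
    let M : Subgroup C :=
      { carrier := {x | IsQ π x}
        one_mem' := ⟨0, 0, 0, by rw [map_one, ut_zero, map_one, uQ_zero, one_mul]⟩
        mul_mem' := fun hx hy => hqmul hx hy
        inv_mem' := fun hx => hqinv hx }
    have hMS : ∀ m ∈ M, Stab π e m := by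
      rintro m ⟨p, a, c, hm⟩
      exact ⟨stab_rel hm, by rw [conj_eq_of_rel h hm (rel0 (hkq a c)) rfl he, hkqe]⟩
    refine ⟨M, hMS, ?_, ?_, z2, hz2A, kq 1 0, ⟨0, 1, 0, rel0 (hkq 1 0)⟩, kq K4.w 0,
      ⟨0, K4.w, 0, rel0 (hkq K4.w 0)⟩, rfl⟩
    · refine IsPGroup.to_le (IsPGroup.of_card (n := 16) h.card_TC) ?_
      rintro m ⟨p, a, c, hm⟩
      exact ⟨(p, a, 0, c), by show ph (U62J.u _ * l _) = π m; rw [hm, map_mul]; rfl⟩
    · intro x hx m hm
      obtain ⟨p, a, c, hm'⟩ := hm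
      obtain ⟨p0, g, hg, hgr⟩ := hrel hx
      have hgi : act g⁻¹ r1 = r1 := by
        conv_lhs => rw [← hgr]
        rw [← act_mul, inv_mul_cancel, act_one]
      have hrel' : π (x * m * x⁻¹) =
          uQ (p0 + act g p + act (g * ut a 0 c) (act g⁻¹ p0)) * lQ (g * ut a 0 c * g⁻¹) := by
        rw [map_mul, map_mul, map_inv, hg, hm', ulQ_inv, ulQ_mul, ulQ_mul]
      have hfix : act (g * ut a 0 c * g⁻¹) r1 = r1 := by rw [act_mul, act_mul, hgi, fix_ut, hgr]
      refine hisq hrel' hfix fun i => ?_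
      have e1 : dAct (g * ut a 0 c * g⁻¹) (topB i) = act g (dAct (ut a 0 c) (act g⁻¹ (topB i))) := by
        rw [dAct, dAct, act_add, act_mul, act_mul, ← act_mul g g⁻¹, mul_inv_cancel, act_one]
      rw [e1]
      exact low_act hgr (hlowF _ _ _)
  · -- every suitable subgroup acts by root elements
    intro M hMS hMp hMn z hz m hm m' hm'
    suffices hsuf : ∀ n ∈ M, IsQ π n from hQval (hsuf m hm) (hsuf m' hm') z hz
    intro n hn
    have hex : ∀ w : ↥M, ∃ p0 g, π (w : C) = uQ p0 * lQ g ∧ act g r1 = r1 := fun w => hrel (hMS _ w.2)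
    choose p0 gm hgm hgr using hex
    have heq : ∀ (w : ↥M) (p0' : HP) (g : SL3), π (w : C) = uQ p0' * lQ g → ∀ p, act g p = act (gm w) p :=
      fun w p0' g hw p => uQ_inj (by rw [← conj_of_rel hw p, conj_of_rel (hgm w) p])
    let W : HP → Prop := fun p => ∀ w : ↥M, Low (dAct (gm w) p)
    have hWadd : ∀ {p p'}, W p → W p' → W (p + p') := fun hp hp' w => by
      rw [dAct_add]; exact low_add (hp w) (hp' w)
    have hWlow : ∀ {p}, Low p → W p := fun hp w => low_add (low_act (hgr w) hp) hp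
    have hWconj : ∀ (x : C) (g : SL3), π x = lQ g → x * e * x⁻¹ = e → g * g = 1 → act g r1 = r1 →
        ∀ {p}, W p → W (act g p) := by
      intro x g hx hxe hg2 hg p hp w
      have hw' : x * w.1 * x⁻¹ ∈ M := hMn x ⟨stab_rel (rel0 hx), hxe⟩ w.1 w.2
      have hgi : g⁻¹ = g := inv_eq_of_mul_eq_one_right hg2
      have hr : π ((⟨_, hw'⟩ : ↥M) : C) = uQ (0 + act g (p0 w) + act (g * gm w) (act g⁻¹ 0)) *
          lQ (g * gm w * g⁻¹) := by
        show π (x * w.1 * x⁻¹) = _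
        rw [map_mul, map_mul, map_inv, rel0 hx, hgm w, ulQ_inv, ulQ_mul, ulQ_mul]
      have h1 := low_act hg (hp ⟨_, hw'⟩)
      rw [dAct, ← heq _ _ _ hr p, hgi, act_add, act_mul, act_mul, ← act_mul g g, hg2, act_one] at h1
      exact h1
    have : Fact (Nat.Prime 2) := ⟨Nat.prime_two⟩
    -- some form off the first row and column is fixed
    obtain ⟨p, hpl, hpW⟩ : ∃ p, ¬ Low p ∧ W p := by
      let tp : HP → ZMod 2 × ZMod 2 × K4 := fun p => (p.2.1, p.2.2.1, p.2.2.2.2.2)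
      let sc : ZMod 2 × ZMod 2 × K4 → HP := fun t => (0, t.1, t.2.1, 0, 0, t.2.2)
      have htp : ∀ p p', tp p = tp p' ↔ Low (p + p') := by
        rintro ⟨a, b, c, x, y, z⟩ ⟨a', b', c', x', y', z'⟩
        have h2 : ∀ s t : ZMod 2, s + t = 0 ↔ s = t := zmod_two_add
        have h4 : ∀ s t : K4, s + t = 0 ↔ s = t := k4_add
        simp [tp, Low, h2, h4, Prod.ext_iff]
      have hwell : ∀ (w : ↥M) p p', tp p = tp p' → tp (act (gm w) p) = tp (act (gm w) p') := by
        intro w p p' e1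
        rw [htp] at e1 ⊢
        rw [← act_add]; exact low_act (hgr w) e1
      letI : MulAction ↥M (ZMod 2 × ZMod 2 × K4) :=
        { smul := fun w t => tp (act (gm w) (sc t))
          one_smul := fun t => by
            show tp (act (gm 1) (sc t)) = t
            rw [← heq 1 0 1 (by rw [Subgroup.coe_one, map_one, map_one, uQ_zero, one_mul]), act_one]
          mul_smul := fun w w' t => by
            show tp (act (gm (w * w')) (sc t)) = tp (act (gm w) (sc (tp (act (gm w') (sc t)))))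
            rw [← heq (w * w') _ _ (show π (((w * w' : ↥M)) : C) = _ by
              rw [Subgroup.coe_mul, map_mul, hgm, hgm, ulQ_mul]), act_mul]
            exact hwell w _ _ rfl }
      have h0 : (0 : ZMod 2 × ZMod 2 × K4) ∈ MulAction.fixedPoints ↥M (ZMod 2 × ZMod 2 × K4) := fun w => by
        show tp (act (gm w) 0) = 0
        rw [act_zero]; rfl
      obtain ⟨t, ht, ht0⟩ := hMp.exists_fixed_point_of_prime_dvd_card_of_fixed_point
        (ZMod 2 × ZMod 2 × K4) (by rw [Nat.card_eq_fintype_card]; decide) h0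
      refine ⟨sc t, fun hl => ?_, fun w => ?_⟩
      · obtain ⟨l1, l2, l3⟩ := hl
        exact ht0 (Prod.ext l1.symm (Prod.ext l2.symm l3.symm))
      · exact (htp _ _).mp ((ht w).trans rfl)
    have hWl : ∀ s p, W p → W (dAct (low s) p) := fun s p hp =>
      hWadd (hWconj (kl s) _ (hkl s) (hkle s) (low_sq s) (fix_low s) hp) hp
    have hstep : ∀ q q', W q → Low (q + q') → W q' := fun q q' hq hl => by
      have := hWadd hq (hWlow hl)
      rwa [← add_assoc, hp_add_self, zero_add] at this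
    have hW1 : W (topB 1) := by
      rcases reach p hpl with hl | ⟨s, hl⟩ | ⟨s, s', hl⟩
      · exact hstep _ _ hpW hl
      · exact hstep _ _ (hWl s p hpW) hl
      · exact hstep _ _ (hWl s' _ (hWl s p hpW)) hl
    have hback : ∀ {g : SL3} (q : HP), g * g = 1 → act g (act g q) = q := fun q hg => by
      rw [← act_mul, hg, act_one]
    have hW2 : W (topB 2) := by
      have := hWconj (km 1) _ (hkm 1) (hkme 1) (mid_sq 1) (fix_ut _ _ _) hW1
      rwa [show topB 1 = act (ut 0 1 0) (topB 2) from rfl, hback _ (mid_sq 1)] at this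
    have hW0 : W (topB 0) := by
      have := hWconj (kl 1) _ (hkl 1) (hkle 1) (low_sq 1) (fix_low _) hW2
      rwa [show topB 2 = act (low 1) (topB 0) from rfl, hback _ (low_sq 1)] at this
    have hW3 : W (topB 3) := hWconj (kl K4.w) _ (hkl K4.w) (hkle K4.w) (low_sq _) (fix_low _) hW0
    refine hisq (hgm ⟨n, hn⟩) (hgr _) fun i => ?_
    fin_cases i
    exacts [hW0 _, hW1 _, hW2 _, hW3 _]

end Cfsg.Agent.Lib.U62J
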